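import Cfsg.Agent.H7.Gol.Tr2
import Cfsg.Agent.H7.Vec2
import Cfsg.Prelude.Def_Spor_Conway

/-! The rank-24 lattice: membership, norms, generators, monomial automorphisms. -/

set_option autoImplicit false
set_option maxRecDepth 100000

namespace CfsgH7.Lee

open Cfsg CfsgH7.Gol MulAction
open scoped Pointwise

attribute [-simp] Fintype.sum_option

/-- Integer vectors. -/
abbrev V : Type := GolayPt → ℤ

/-- The lattice. -/
abbrev Λ : AddSubgroup V := leechLattice

/-- Indicator vectors. -/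
def χ (c : Finset GolayPt) : V := fun i => if i ∈ c then 1 else 0

theorem χ01 (c : Finset GolayPt) (i : GolayPt) : χ c i = 0 ∨ χ c i = 1 := by
  unfold χ; split_ifs <;> simp

theorem sum_χ (c : Finset GolayPt) : ∑ i, χ c i = c.card := by simp [χ]

theorem sum_χ_mul (c : Finset GolayPt) (x : V) : ∑ i, χ c i * x i = ∑ i ∈ c, x i := by
  simp [χ, Finset.sum_ite_mem]

theorem χ_symmDiff (a b : Finset GolayPt) (i : GolayPt) :
    χ (symmDiff a b) i = χ a i + χ b i - 2 * χ (a ∩ b) i := by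
  simp only [χ, Finset.mem_symmDiff, Finset.mem_inter]
  by_cases h1 : i ∈ a <;> by_cases h2 : i ∈ b <;> simp [h1, h2]

theorem U4 {c : Finset GolayPt} (hc : c ∈ U) : c.card % 4 = 0 := by have := wt hc; omega

theorem U_inter {a b : Finset GolayPt} (ha : a ∈ U) (hb : b ∈ U) : (a ∩ b).card % 2 = 0 := by
  have := card_symmDiff a b
  have := U4 ha; have := U4 hb; have := U4 (U_xor ha hb)
  omega

/-- The congruence description. -/
def Lc (x : V) : Prop := ∃ m : ℤ, ∃ c ∈ U, (∀ i, (x i - m - 2 * χ c i) % 4 = 0) ∧ (∑ i, x i - 4 * m) % 8 = 0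

theorem Lc_iff {x : V} : Lc x ↔ x ∈ leechSet := by
  constructor
  · rintro ⟨m, c, hc, h1, h2⟩
    refine ⟨m, fun i => by have := h1 i; unfold Int.ModEq; omega, by unfold Int.ModEq; omega, fun k => ?_⟩
    by_cases a1 : (k - m) % 4 = 2
    · have : (Finset.univ.filter fun i => x i ≡ k [ZMOD 4]) = c := by
        ext i
        have := h1 i
        rw [Finset.mem_filter_univ, Int.ModEq]
        by_cases hi : i ∈ c <;> simp only [χ, hi, if_true, if_false, iff_true, iff_false] at this ⊢ <;> omega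
      rwa [this]
    by_cases a2 : (k - m) % 4 = 0
    · have : (Finset.univ.filter fun i => x i ≡ k [ZMOD 4]) = cᶜ := by
        ext i
        have := h1 i
        rw [Finset.mem_filter_univ, Int.ModEq, Finset.mem_compl]
        by_cases hi : i ∈ c <;> simp only [χ, hi, if_true, if_false, iff_true, iff_false, not_true,
          not_false_eq_true] at this ⊢ <;> omega
      rw [this]; exact U_compl hc
    · have : (Finset.univ.filter fun i => x i ≡ k [ZMOD 4]) = ∅ := by
        ext i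
        have := h1 i
        have := χ01 c i
        rw [Finset.mem_filter_univ, Int.ModEq]
        simp only [Finset.notMem_empty, iff_false]
        omega
      rw [this]; exact U_empty
  · rintro ⟨m, h1, h2, h3⟩
    refine ⟨m, _, h3 (m + 2), fun i => ?_, by unfold Int.ModEq at h2; omega⟩
    have := h1 i
    simp only [χ, Finset.mem_filter_univ]
    unfold Int.ModEq at this ⊢
    split_ifs <;> omega

/-- The congruence description as a subgroup. -/
def LL : AddSubgroup V where
  carrier := {x | Lc x}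
  zero_mem' := ⟨0, ∅, U_empty, by simp [χ], by simp⟩
  add_mem' := by
    rintro x y ⟨m, c, hc, h1, h2⟩ ⟨m', c', hc', h1', h2'⟩
    refine ⟨m + m', _, U_xor hc hc', fun i => ?_, ?_⟩
    · have := h1 i; have := h1' i
      rw [χ_symmDiff, Pi.add_apply]; omega
    · simp only [Pi.add_apply, Finset.sum_add_distrib]; omega
  neg_mem' := by
    rintro x ⟨m, c, hc, h1, h2⟩
    refine ⟨-m, c, hc, fun i => ?_, ?_⟩
    · have := h1 i; rw [Pi.neg_apply]; omega
    · simp only [Pi.neg_apply, Finset.sum_neg_distrib]; omega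

theorem Λ_eq : Λ = LL := by
  apply le_antisymm
  · exact (AddSubgroup.closure_le _).2 fun x hx => Lc_iff.2 hx
  · exact fun x hx => AddSubgroup.subset_closure (Lc_iff.1 hx)

theorem mem_Λ {x : V} : x ∈ Λ ↔ Lc x := by rw [Λ_eq]; rfl

/-- The positions with residue 2 or 3 modulo 4. -/
def cs (x : V) : Finset GolayPt := Finset.univ.filter fun i => 2 ≤ x i % 4

theorem mem_cs {x : V} {i : GolayPt} : i ∈ cs x ↔ 2 ≤ x i % 4 := by simp [cs]

theorem χ_cs (x : V) (i : GolayPt) : 2 * χ (cs x) i = x i % 4 - x i % 2 := by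
  simp only [χ, mem_cs]; split_ifs <;> omega

theorem mem_iff {x : V} : x ∈ Λ ↔
    (∀ i, x i % 2 = x none % 2) ∧ (∑ i, x i) % 8 = 4 * (x none % 2) ∧ cs x ∈ U := by
  rw [mem_Λ]
  constructor
  · rintro ⟨m, c, hc, h1, h2⟩
    have h0 := h1 none
    refine ⟨fun i => by have := h1 i; omega, by omega, ?_⟩
    by_cases a : m % 4 < 2
    · have : cs x = c := by
        ext i; have := h1 i; rw [mem_cs]
        by_cases hi : i ∈ c <;> simp only [χ, hi, if_true, if_false, iff_true, iff_false] at this ⊢ <;> omega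
      rwa [this]
    · have : cs x = cᶜ := by
        ext i; have := h1 i; rw [mem_cs, Finset.mem_compl]
        by_cases hi : i ∈ c <;> simp only [χ, hi, if_true, if_false, iff_true, iff_false, not_true,
          not_false_eq_true] at this ⊢ <;> omega
      rw [this]; exact U_compl hc
  · rintro ⟨h1, h2, h3⟩
    exact ⟨x none % 2, _, h3, fun i => by have := h1 i; have := χ_cs x i; omega, by omega⟩

theorem sq_eq (x : V) : sqNorm x = dotInt x x := by simp [sqNorm, dotInt, sq]

theorem dot_comm (x y : V) : dotInt x y = dotInt y x := by simp [dotInt, mul_comm]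

theorem dot_add (x y z : V) : dotInt x (y + z) = dotInt x y + dotInt x z := by
  simp [dotInt, mul_add, Finset.sum_add_distrib]

theorem dot_sub (x y z : V) : dotInt x (y - z) = dotInt x y - dotInt x z := by
  simp [dotInt, mul_sub, Finset.sum_sub_distrib]

theorem dot_neg (x y : V) : dotInt x (-y) = -dotInt x y := by simp [dotInt]

theorem add_dot (x y z : V) : dotInt (x + y) z = dotInt x z + dotInt y z := by
  simp [dotInt, add_mul, Finset.sum_add_distrib]

theorem sub_dot (x y z : V) : dotInt (x - y) z = dotInt x z - dotInt y z := by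
  simp [dotInt, sub_mul, Finset.sum_sub_distrib]

theorem neg_dot (x y : V) : dotInt (-x) y = -dotInt x y := by simp [dotInt]

theorem sq_add (x y : V) : sqNorm (x + y) = sqNorm x + sqNorm y + 2 * dotInt x y := by
  rw [sq_eq, sq_eq, sq_eq, add_dot, dot_add, dot_add, dot_comm y x]; ring

theorem sq_sub (x y : V) : sqNorm (x - y) = sqNorm x + sqNorm y - 2 * dotInt x y := by
  rw [sq_eq, sq_eq, sq_eq, sub_dot, dot_sub, dot_sub, dot_comm y x]; ring

theorem sq_neg (x : V) : sqNorm (-x) = sqNorm x := by simp [sqNorm]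

theorem sq_smul (k : ℤ) (x : V) : sqNorm (k • x) = k ^ 2 * sqNorm x := by
  simp [sqNorm, mul_pow, Finset.mul_sum]

theorem sq_nonneg' (x : V) : 0 ≤ sqNorm x := Finset.sum_nonneg fun _ _ => sq_nonneg _

theorem sq_le (x : V) (i : GolayPt) : x i ^ 2 ≤ sqNorm x :=
  Finset.single_le_sum (f := fun i => x i ^ 2) (fun _ _ => sq_nonneg _) (Finset.mem_univ i)

theorem sq_zero {x : V} (h : sqNorm x = 0) : x = 0 := by
  funext i
  have := sq_le x i
  rw [h] at this
  exact pow_eq_zero_iff (two_ne_zero) |>.1 (le_antisymm this (sq_nonneg _))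

theorem sum_sq_par (u : V) : sqNorm u % 2 = (∑ i, u i) % 2 := by
  have : (2 : ℤ) ∣ sqNorm u - ∑ i, u i := by
    rw [sqNorm, ← Finset.sum_sub_distrib]
    exact Finset.dvd_sum fun i _ => by
      rw [show u i ^ 2 - u i = (u i - 1) * (u i - 1 + 1) by ring]
      exact (Int.even_mul_succ_self _).two_dvd
  omega

theorem decomp {x : V} (hx : x ∈ Λ) : ∃ m : ℤ, ∃ c ∈ U, ∃ u : V, (m = 0 ∨ m = 1) ∧
    (∀ i, x i = m + 2 * χ c i + 4 * u i) ∧ (∑ i, u i) % 2 = m := by
  obtain ⟨h1, h2, h3⟩ := mem_iff.1 hx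
  have e : ∀ i, x i = x none % 2 + 2 * χ (cs x) i + 4 * (x i / 4) := fun i => by
    have := h1 i; have := χ_cs x i; omega
  refine ⟨x none % 2, _, h3, fun i => x i / 4, by omega, e, ?_⟩
  have : ∑ i, x i = 24 * (x none % 2) + 2 * (cs x).card + 4 * ∑ i, x i / 4 := by
    rw [Finset.sum_congr rfl fun i _ => e i]
    simp only [Finset.sum_add_distrib, ← Finset.mul_sum, sum_χ, Finset.sum_const, Finset.card_univ, cardP]
    simp
  have := U4 h3
  beta_reduce
  omega

theorem norm_decomp {x : V} {m : ℤ} {c : Finset GolayPt} {u : V} (h : ∀ i, x i = m + 2 * χ c i + 4 * u i) :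
    sqNorm x = 24 * m ^ 2 + 4 * (m + 1) * c.card + 8 * m * ∑ i, u i + 16 * (∑ i ∈ c, u i + sqNorm u) := by
  have e : ∀ i, x i ^ 2 = m ^ 2 + 4 * (m + 1) * χ c i + 8 * m * u i + 16 * (χ c i * u i + u i ^ 2) := fun i => by
    rw [h i]; rcases χ01 c i with e | e <;> rw [e] <;> ring
  rw [sqNorm, Finset.sum_congr rfl fun i _ => e i]
  simp only [Finset.sum_add_distrib, ← Finset.mul_sum, sum_χ, sum_χ_mul, Finset.sum_const, Finset.card_univ,
    cardP, sqNorm]
  simp

theorem dvd16 {x : V} (hx : x ∈ Λ) : sqNorm x % 16 = 0 := by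
  obtain ⟨m, c, hc, u, hm, h1, h2⟩ := decomp hx
  have := U4 hc
  rw [norm_decomp h1]
  rcases hm with rfl | rfl <;> omega

theorem dvd8 {x y : V} (hx : x ∈ Λ) (hy : y ∈ Λ) : dotInt x y % 8 = 0 := by
  have := dvd16 hx; have := dvd16 hy; have := dvd16 (Λ.add_mem hx hy)
  rw [sq_add] at this
  omega

theorem sq_ge {x : V} {c : Finset GolayPt} {k : ℤ} (h : ∀ i ∈ c, k ≤ x i ^ 2) : k * c.card ≤ sqNorm x := by
  calc k * c.card = ∑ _i ∈ c, k := by simp [mul_comm]
    _ ≤ ∑ i ∈ c, x i ^ 2 := Finset.sum_le_sum h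
    _ ≤ _ := Finset.sum_le_sum_of_subset_of_nonneg (Finset.subset_univ _) fun _ _ _ => sq_nonneg _

theorem min32 {x : V} (hx : x ∈ Λ) (h0 : x ≠ 0) : 32 ≤ sqNorm x := by
  have h16 := dvd16 hx
  have hp : sqNorm x ≠ 0 := fun h => h0 (sq_zero h)
  have := sq_nonneg' x
  obtain ⟨m, c, hc, u, hm, h1, h2⟩ := decomp hx
  rcases hm with rfl | rfl
  · by_cases e : c = ∅
    · subst e
      have := sum_sq_par u
      have e := norm_decomp h1
      simp at e
      omega
    · have h3 := sq_ge (x := x) (c := c) (k := 4) fun i hi => by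
        have := h1 i
        simp only [χ, hi, if_true] at this
        have : x i ≤ -2 ∨ 2 ≤ x i := by omega
        rcases this with h | h <;> nlinarith
      have := wt hc
      have : c.card ≠ 0 := fun h => e (Finset.card_eq_zero.1 h)
      omega
  · have h3 := sq_ge (x := x) (c := Finset.univ) (k := 1) fun i _ => by
      have := h1 i
      have : x i ≤ -1 ∨ 1 ≤ x i := by omega
      rcases this with h | h <;> nlinarith
    rw [Finset.card_univ, cardP] at h3
    omega

theorem finite_norm (K : ℤ) : {x : V | sqNorm x = K}.Finite := by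
  refine (Set.Finite.pi (fun _ : GolayPt => Set.finite_Icc (-K) K)).subset fun x hx i _ => ?_
  have := sq_le x i
  rw [show sqNorm x = K from hx] at this
  constructor <;> nlinarith [sq_nonneg (x i - 1), sq_nonneg (x i + 1)]

theorem finite_normL (K : ℤ) : {x : Λ | sqNorm (x : V) = K}.Finite :=
  (finite_norm K).preimage Subtype.val_injective.injOn

/-! ### Automorphisms -/

theorem g_add (g : Co0) (x y : Λ) : g • (x + y) = g • x + g • y := g.2.1 x y

theorem g_norm (g : Co0) (x : Λ) : sqNorm ((g • x : Λ) : V) = sqNorm (x : V) := g.2.2 x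

/-- An automorphism as an additive map. -/
def gh (g : Co0) : Λ →+ Λ := AddMonoidHom.mk' (fun x => g • x) (g_add g)

theorem g_zero (g : Co0) : g • (0 : Λ) = 0 := (gh g).map_zero

theorem g_neg (g : Co0) (x : Λ) : g • (-x) = -(g • x) := (gh g).map_neg x

theorem g_sub (g : Co0) (x y : Λ) : g • (x - y) = g • x - g • y := (gh g).map_sub x y

theorem g_zsmul (g : Co0) (k : ℤ) (x : Λ) : g • (k • x) = k • (g • x) := (gh g).map_zsmul k x

theorem g_dot (g : Co0) (x y : Λ) : dotInt ((g • x : Λ) : V) ((g • y : Λ) : V) = dotInt (x : V) (y : V) := by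
  have h := g_norm g (x + y)
  rw [g_add, AddSubgroup.coe_add, AddSubgroup.coe_add, sq_add, sq_add, g_norm, g_norm] at h
  omega

theorem g_ext {g h : Co0} (e : ∀ x : Λ, g • x = h • x) : g = h := Subtype.ext (Equiv.ext e)

theorem aut_bij (f : Λ →+ Λ) (h : ∀ x, sqNorm (f x : V) = sqNorm (x : V)) : Function.Bijective f := by
  have hi : Function.Injective f := (injective_iff_map_eq_zero f).2 fun x hx =>
    Subtype.ext (sq_zero (by rw [← h, hx]; simp [sqNorm]))
  refine ⟨hi, fun y => ?_⟩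
  have := (finite_normL (sqNorm (y : V))).injOn_iff_bijOn_of_mapsTo (f := f) fun x hx => (h x).trans hx
  obtain ⟨x, _, e⟩ := (this.1 hi.injOn).surjOn (show sqNorm (y : V) = _ from rfl)
  exact ⟨x, e⟩

/-- A norm-preserving additive map of the lattice is an automorphism. -/
noncomputable def mkAut (f : V → V) (hm : ∀ x ∈ Λ, f x ∈ Λ) (ha : ∀ x ∈ Λ, ∀ y ∈ Λ, f (x + y) = f x + f y)
    (hn : ∀ x ∈ Λ, sqNorm (f x) = sqNorm x) : Co0 :=
  ⟨Equiv.ofBijective _ (aut_bij (AddMonoidHom.mk' (fun x => ⟨f x, hm x x.2⟩)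
    fun x y => Subtype.ext (ha x x.2 y y.2)) fun x => hn x x.2),
    fun x y => Subtype.ext (ha x x.2 y y.2), fun x => hn x x.2⟩

theorem mkAut_val (f : V → V) (hm : ∀ x ∈ Λ, f x ∈ Λ) (ha : ∀ x ∈ Λ, ∀ y ∈ Λ, f (x + y) = f x + f y)
    (hn : ∀ x ∈ Λ, sqNorm (f x) = sqNorm x) (x : Λ) : ((mkAut f hm ha hn • x : Λ) : V) = f x := rfl

theorem perm_mem {σ : Equiv.Perm GolayPt} (hσ : σ ∈ M24) {x : V} (hx : x ∈ Λ) : (fun i => x (σ.symm i)) ∈ Λ := by
  obtain ⟨m, c, hc, h1, h2⟩ := mem_Λ.1 hx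
  refine mem_Λ.2 ⟨m, σ • c, (smul_U hσ).2 hc, fun i => ?_, ?_⟩
  · have := h1 (σ.symm i)
    have e : χ (σ • c) i = χ c (σ.symm i) := by simp only [χ, ← Finset.inv_smul_mem_iff]; rfl
    rwa [e]
  · rwa [Equiv.sum_comp σ.symm x]

theorem sign_mem {c : Finset GolayPt} (hc : c ∈ U) {x : V} (hx : x ∈ Λ) :
    (fun i => if i ∈ c then -x i else x i) ∈ Λ := by
  obtain ⟨m, a, ha, u, hm, h1, h2⟩ := decomp hx
  have e : (fun i => if i ∈ c then -x i else x i) = x - (2 : ℤ) • fun i => χ c i * x i := by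
    funext i; simp only [χ, Pi.sub_apply, Pi.smul_apply, smul_eq_mul]; split_ifs <;> ring
  rw [e]
  refine Λ.sub_mem hx (mem_Λ.2 ⟨0, if m = 0 then ∅ else c, by split_ifs; exacts [U_empty, hc], fun i => ?_, ?_⟩)
  · have := h1 i
    simp only [Pi.smul_apply, smul_eq_mul]
    rcases hm with rfl | rfl
    · rw [if_pos rfl, show χ ∅ i = 0 from by simp [χ]]
      rcases χ01 c i with e | e <;> rw [e] <;> omega
    · rw [if_neg one_ne_zero]
      rcases χ01 c i with e | e <;> rw [e] <;> omega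
  · simp only [Pi.smul_apply, smul_eq_mul, ← Finset.mul_sum]
    have e2 : ∑ i, χ c i * x i = m * c.card + 2 * (c ∩ a).card + 4 * ∑ i, χ c i * u i := by
      rw [← sum_χ, ← sum_χ, Finset.mul_sum, Finset.mul_sum, Finset.mul_sum, ← Finset.sum_add_distrib,
        ← Finset.sum_add_distrib]
      refine Finset.sum_congr rfl fun i _ => ?_
      rw [h1 i]
      simp only [χ, Finset.mem_inter]
      by_cases a1 : i ∈ c <;> by_cases a2 : i ∈ a <;> simp [a1, a2]
    have := U4 hc
    have := U_inter hc ha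
    rw [e2]
    rcases hm with rfl | rfl <;> omega

/-- The monomial automorphisms. -/
noncomputable def mono (σ : M24) (c : U) : Co0 :=
  mkAut (signedPerm σ c) (fun _ hx => sign_mem c.2 (perm_mem σ.2 hx))
    (fun x _ y _ => by funext i; simp only [signedPerm, Pi.add_apply]; split_ifs <;> ring)
    (fun x _ => by
      rw [sqNorm, sqNorm, ← Equiv.sum_comp σ.1.symm fun i => x i ^ 2]
      exact Finset.sum_congr rfl fun i _ => by simp only [signedPerm]; split_ifs <;> ring)

theorem mono_val (σ : M24) (c : U) (x : Λ) : ((mono σ c • x : Λ) : V) = signedPerm σ c x := rfl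

/-- Negation. -/
noncomputable def neg1 : Co0 := mono 1 ⟨Finset.univ, U_univ⟩

theorem neg1_smul (x : Λ) : neg1 • x = -x := Subtype.ext (by funext i; simp [neg1, mono_val, signedPerm]; rfl)

/-- Coordinate vectors. -/
def e (i : GolayPt) : V := Pi.single i 1

theorem sum_e (i : GolayPt) : ∑ j, e i j = 1 := by simp [e]

theorem four_mem {u : V} (h : (∑ i, u i) % 2 = 0) : (4 : ℤ) • u ∈ Λ :=
  mem_Λ.2 ⟨0, ∅, U_empty, fun i => by simp [χ], by
    simp only [Pi.smul_apply, smul_eq_mul, ← Finset.mul_sum]; omega⟩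

theorem two_mem {c : Finset GolayPt} (h : c ∈ U) : (2 : ℤ) • χ c ∈ Λ :=
  mem_Λ.2 ⟨0, c, h, fun i => by simp, by
    simp only [Pi.smul_apply, smul_eq_mul, ← Finset.mul_sum, sum_χ]; have := U4 h; omega⟩

/-- The odd vector with one coordinate `-3`. -/
def o3 : V := fun i => if i = none then -3 else 1

theorem o3_mem : o3 ∈ Λ := mem_Λ.2 ⟨1, ∅, U_empty, by decide, by decide⟩

theorem four_le {A : AddSubgroup V} (h1 : ∀ i, i ≠ none → (4 : ℤ) • (e i + e none) ∈ A)
    (h2 : (4 : ℤ) • (e (some 0) - e none) ∈ A) {u : V} (h : (∑ i, u i) % 2 = 0) : (4 : ℤ) • u ∈ A := by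
  have h8 : (4 : ℤ) • ((2 : ℤ) • e none) ∈ A := by
    have := A.sub_mem (h1 (some 0) (by simp)) h2
    rwa [← smul_sub, add_sub_sub_cancel, ← two_smul ℤ] at this
  have h3 : ∀ i, (4 : ℤ) • (e i + e none) ∈ A := fun i => by
    by_cases hi : i = none
    · rwa [hi, ← two_smul ℤ]
    · exact h1 i hi
  have e1 : u = ∑ i, u i • (e i + e none) - ((∑ i, u i) / 2) • ((2 : ℤ) • e none) := by
    rw [smul_smul, Int.ediv_mul_cancel (by omega)]
    simp only [smul_add, Finset.sum_add_distrib, ← Finset.sum_smul, add_sub_cancel_right]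
    exact pi_eq_sum_univ' u
  rw [e1, smul_sub, Finset.smul_sum]
  refine A.sub_mem (A.sum_mem fun i _ => ?_) ?_ <;> rw [smul_comm]
  · exact A.zsmul_mem (h3 i) _
  · exact A.zsmul_mem h8 _

theorem le_of_gens {A : AddSubgroup V} (h1 : ∀ i, i ≠ none → (4 : ℤ) • (e i + e none) ∈ A)
    (h2 : (4 : ℤ) • (e (some 0) - e none) ∈ A) (h3 : ∀ a ∈ BS, (2 : ℤ) • χ (S a) ∈ A) (h4 : o3 ∈ A) :
    Λ ≤ A := by
  have key : ∀ L : List Nat, (∀ a ∈ L, S a ∈ U ∧ (2 : ℤ) • χ (S a) ∈ A) →
      ∀ c, S (comb L c) ∈ U ∧ (2 : ℤ) • χ (S (comb L c)) ∈ A := fun L h c =>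
    comb_induction (φ := fun a => S a ∈ U ∧ (2 : ℤ) • χ (S a) ∈ A)
      (by rw [S_zero]; exact ⟨U_empty, by rw [show χ ∅ = 0 from by funext i; simp [χ]]; simp⟩)
      (fun a b ha hb => by
        have e : S (a ^^^ b) = symmDiff (S a) (S b) := (msk_symmDiff a b).symm
        rw [e]
        refine ⟨U_xor ha.1 hb.1, ?_⟩
        have : (2 : ℤ) • χ (symmDiff (S a) (S b)) =
            (2 : ℤ) • χ (S a) + (2 : ℤ) • χ (S b) - (4 : ℤ) • χ (S a ∩ S b) := by
          funext i; simp only [χ_symmDiff, Pi.smul_apply, Pi.add_apply, Pi.sub_apply, smul_eq_mul]; ring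
        rw [this]
        refine A.sub_mem (A.add_mem ha.2 hb.2) (four_le h1 h2 ?_)
        have := U_inter ha.1 hb.1
        rw [sum_χ]; omega) h c
  have h5 : ∀ c ∈ U, (2 : ℤ) • χ c ∈ A := by
    intro c hc
    obtain ⟨k, _, rfl⟩ := U_surj hc
    exact (key BS (fun a ha =>
      ⟨U_of (lall_iff.1 (show lall isCw BS = true by decide +kernel) a ha), h3 a ha⟩) k).2
  intro x hx
  obtain ⟨m, c, hc, u, hm, h6, h7⟩ := decomp hx
  have : x = m • o3 + (2 : ℤ) • χ c + (4 : ℤ) • (u + m • e none) := by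
    funext i
    simp only [h6 i, o3, e, Pi.add_apply, Pi.smul_apply, smul_eq_mul, Pi.single_apply]
    split_ifs <;> ring
  rw [this]
  refine A.add_mem (A.add_mem (A.zsmul_mem h4 _) (h5 c hc)) (four_le h1 h2 ?_)
  simp only [Pi.add_apply, Pi.smul_apply, smul_eq_mul, Finset.sum_add_distrib, ← Finset.mul_sum, sum_e]
  omega

theorem sq_e2 {i j : GolayPt} (h : i ≠ j) (s : ℤ) (hs : s * s = 1) : sqNorm ((4 : ℤ) • (e i + s • e j)) = 32 := by
  rw [sq_smul, sq_add, sq_smul]
  simp [sqNorm, dotInt, e, Pi.single_apply, h.symm, sq, hs]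

theorem le_of_min {A : AddSubgroup V} (h : ∀ x ∈ Λ, sqNorm x = 32 → x ∈ A) : Λ ≤ A := by
  refine le_of_gens (fun i hi => h _ (four_mem (by simp [Finset.sum_add_distrib, sum_e])) ?_)
    (h _ (four_mem (by simp [Finset.sum_sub_distrib, sum_e])) ?_) (fun a ha => ?_) (h _ o3_mem (by decide))
  · simpa using sq_e2 hi 1 rfl
  · simpa [sub_eq_add_neg] using sq_e2 (i := some 0) (j := none) (by simp) (-1) rfl
  · have h1 := oct_of (lall_iff.1 (show lall isOct BS = true by decide +kernel) a ha)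
    refine h _ (two_mem h1.1) ?_
    rw [sq_smul, sqNorm, Finset.sum_congr rfl fun i _ => show χ (S a) i ^ 2 = χ (S a) i by
      rcases χ01 (S a) i with e | e <;> rw [e] <;> rfl, sum_χ, h1.2]
    rfl

theorem ext_min {M : Type*} [AddGroup M] {f g : Λ →+ M} (h : ∀ x : Λ, sqNorm (x : V) = 32 → f x = g x) :
    f = g := by
  ext x
  obtain ⟨y, hy, e⟩ := le_of_min (A := (f.eqLocus g).map Λ.subtype)
    (fun x hx hn => ⟨⟨x, hx⟩, h _ hn, rfl⟩) x.2
  rw [← Subtype.ext e]; exact hy

theorem g_ext_min {g h : Co0} (e : ∀ x : Λ, sqNorm (x : V) = 32 → g • x = h • x) : g = h :=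
  g_ext fun x => DFunLike.congr_fun (ext_min (f := gh g) (g := gh h) e) x

instance : Finite Co0 := by
  have := (finite_normL 32).to_subtype
  refine Finite.of_injective (fun (g : Co0) (x : {x : Λ | sqNorm (x : V) = 32}) =>
    (⟨g • x.1, (g_norm g x).trans x.2⟩ : {x : Λ | sqNorm (x : V) = 32})) fun g h e => ?_
  exact g_ext_min fun x hx => congrArg Subtype.val (congrFun e ⟨x, hx⟩)

/-! ### The standard cross -/

theorem eight_mem (i : GolayPt) (s : ℤ) : Pi.single i (8 * s) ∈ Λ := by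
  have := four_mem (u := (2 * s) • e i) (by simp [← Finset.mul_sum, sum_e])
  convert this using 1
  funext j; simp only [e, Pi.single_apply, Pi.smul_apply, smul_eq_mul]; split_ifs <;> ring

theorem std_mem {y : V} (h : y ∈ stdCross) : y ∈ Λ ∧ sqNorm y = 64 := by
  obtain ⟨i, s, hs, rfl⟩ := h
  refine ⟨?_, by rcases hs with rfl | rfl <;> simp [sqNorm, Pi.single_apply]⟩
  rcases hs with rfl | rfl
  · exact eight_mem i 1
  · exact eight_mem i (-1)

theorem std_cong {y z : V} (h : y ∈ stdCross) (h' : z ∈ stdCross) : ∃ w ∈ Λ, y - z = (2 : ℤ) • w := by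
  obtain ⟨i, s, hs, rfl⟩ := h
  obtain ⟨j, t, ht, rfl⟩ := h'
  refine ⟨(4 : ℤ) • ((s / 8) • e i - (t / 8) • e j), four_mem ?_, ?_⟩
  · simp only [Pi.sub_apply, Pi.smul_apply, smul_eq_mul, Finset.sum_sub_distrib, ← Finset.mul_sum, sum_e]
    omega
  · funext k
    simp only [e, Pi.single_apply, Pi.smul_apply, smul_eq_mul, Pi.sub_apply]
    split_ifs <;> omega

theorem std_of {y z w : V} (h : z ∈ stdCross) (hw : w ∈ Λ) (e : y - z = (2 : ℤ) • w) (hn : sqNorm y = 64) :
    y ∈ stdCross := by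
  obtain ⟨j, t, ht, rfl⟩ := h
  obtain ⟨m, c, hc, u, hm, h1, _⟩ := decomp hw
  have h2 : ∀ i, (y i - 2 * m - 4 * χ c i) % 8 = 0 := fun i => by
    have := congrFun e i
    simp only [Pi.single_apply, Pi.smul_apply, smul_eq_mul, Pi.sub_apply, h1 i] at this
    split_ifs at this <;> omega
  rcases hm with rfl | rfl
  · have h3 := sq_ge (x := y) (c := c) (k := 16) fun i hi => by
      have := h2 i
      simp only [χ, hi, if_true] at this
      have : y i ≤ -4 ∨ 4 ≤ y i := by omega
      rcases this with h | h <;> nlinarith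
    have := wt hc
    obtain rfl : c = ∅ := Finset.card_eq_zero.1 (by omega)
    obtain ⟨i, hi⟩ : ∃ i, y i ≠ 0 := by
      by_contra hc
      push Not at hc
      simp [sqNorm, hc] at hn
    have h4 := h2 i
    have h5 := sq_le y i
    simp only [χ, Finset.notMem_empty, if_false] at h4
    have h6 : y i = 8 ∨ y i = -8 := by
      have : y i ≤ 8 ∧ -8 ≤ y i := by constructor <;> nlinarith
      omega
    refine ⟨i, y i, h6, ?_⟩
    have h7 : sqNorm (y - Pi.single i (y i)) = 0 := by
      rw [sq_sub, hn]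
      simp only [sqNorm, dotInt, Pi.single_apply]
      rcases h6 with h | h <;> simp [h]
    exact sub_eq_zero.1 (sq_zero h7)
  · have h3 := sq_ge (x := y) (c := Finset.univ) (k := 4) fun i _ => by
      have := h2 i
      have : y i ≤ -2 ∨ 2 ≤ y i := by omega
      rcases this with h | h <;> nlinarith
    rw [Finset.card_univ, cardP] at h3
    omega

/-- The vectors of the standard cross. -/
def f8 (i : GolayPt) : Λ := ⟨Pi.single i 8, eight_mem i 1⟩

theorem f8_std (i : GolayPt) : (f8 i : V) ∈ stdCross := ⟨i, 8, Or.inl rfl, rfl⟩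

theorem cross_of_one {g : Co0} {i : GolayPt} (h : ((g • f8 i : Λ) : V) ∈ stdCross) (v : Λ)
    (hv : (v : V) ∈ stdCross) : ((g • v : Λ) : V) ∈ stdCross := by
  obtain ⟨w, hw, e⟩ := std_cong hv (f8_std i)
  refine std_of h (g • (⟨w, hw⟩ : Λ)).2 ?_ (by rw [g_norm, (std_mem hv).2])
  have : v - f8 i = (2 : ℤ) • (⟨w, hw⟩ : Λ) := Subtype.ext e
  rw [← AddSubgroup.coe_sub, ← g_sub, this, g_zsmul]; rfl

theorem eight_smul (x : Λ) : (8 : ℤ) • x = ∑ i, (x : V) i • f8 i := by
  apply Subtype.ext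
  funext j
  simp [f8, Pi.single_apply, mul_comm]

theorem mono_of {g : Co0} (h : ∀ i, ((g • f8 i : Λ) : V) ∈ stdCross) : ∃ σ c, g = mono σ c := by
  choose τ s hs ht using h
  have hinj : Function.Injective τ := by
    intro i j hij
    by_contra hne
    have := g_dot g (f8 i) (f8 j)
    rw [ht, ht, hij] at this
    simp only [dotInt, f8, Pi.single_apply] at this
    rcases hs i with a | a <;> rcases hs j with b | b <;> simp [a, b, Ne.symm hne] at this
  let σ : Equiv.Perm GolayPt := Equiv.ofBijective τ (Finite.injective_iff_bijective.1 hinj)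
  let c : Finset GolayPt := Finset.univ.filter fun i => s (σ.symm i) = -8
  have key : ∀ x : Λ, ((g • x : Λ) : V) = signedPerm σ c x := by
    intro x
    funext j
    obtain ⟨k, rfl⟩ := σ.surjective j
    have h1 := congrArg (fun y : Λ => (y : V) (σ k)) (g_zsmul g 8 x)
    rw [eight_smul, show g • ∑ i, (x : V) i • f8 i = ∑ i, (x : V) i • g • f8 i by
      rw [show ∀ y : Λ, g • y = gh g y from fun _ => rfl, map_sum]; simp only [map_zsmul]; rfl] at h1
    simp only [AddSubgroup.val_finsetSum, AddSubgroup.coe_zsmul, Finset.sum_apply, Pi.smul_apply, ht,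
      Pi.single_apply, smul_eq_mul, show σ k = τ k from rfl, hinj.eq_iff, mul_ite, mul_zero,
      Finset.sum_ite_eq, Finset.mem_univ, if_true] at h1
    simp only [signedPerm, c, Finset.mem_filter, Finset.mem_univ, true_and, Equiv.symm_apply_apply]
    rw [show σ k = τ k from rfl]
    rcases hs k with a | a <;> simp only [a] at h1 ⊢ <;> simp <;> omega
  have hσ : σ ∈ M24 := by
    rw [mem_M24]
    intro a ha
    have := (mem_iff.1 (g • (⟨_, two_mem ha⟩ : Λ)).2).2.2
    rw [key] at this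
    convert this using 1
    ext i
    rw [mem_cs, ← Finset.inv_smul_mem_iff]
    simp only [signedPerm, Pi.smul_apply, smul_eq_mul, χ]
    rw [show σ⁻¹ • i = σ.symm i from rfl]
    split_ifs <;> simp [*]
  have hc : c ∈ U := by
    have := (mem_iff.1 (g • (⟨_, o3_mem⟩ : Λ)).2).2.2
    rw [key] at this
    convert this using 1
    ext i
    rw [mem_cs]
    simp only [signedPerm, o3]
    split_ifs <;> simp [*]
  exact ⟨⟨σ, hσ⟩, ⟨c, hc⟩, g_ext fun x => Subtype.ext (key x)⟩

theorem mono_f8 (σ : M24) (c : U) (i : GolayPt) :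
    ((mono σ c • f8 i : Λ) : V) = Pi.single (σ • i) (if σ • i ∈ c.1 then -8 else 8) := by
  funext j
  rw [mono_val]
  have e : σ • i = σ.1 i := rfl
  simp only [signedPerm, f8, Pi.single_apply, Equiv.symm_apply_eq, e]
  by_cases h : j = σ.1 i
  · subst h; split_ifs <;> simp_all
  · simp [h]

theorem mono_std (σ : M24) (c : U) (i : GolayPt) : ((mono σ c • f8 i : Λ) : V) ∈ stdCross :=
  ⟨_, _, by split_ifs <;> simp, mono_f8 σ c i⟩

theorem mono_fix {σ : M24} {c : U} {i : GolayPt} : mono σ c • f8 i = f8 i ↔ σ • i = i ∧ i ∉ c.1 := by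
  rw [Subtype.ext_iff, mono_f8]
  constructor
  · intro h
    have h1 := congrFun h i
    simp only [f8, Pi.single_apply, if_true] at h1
    by_cases a : i = σ • i
    · rw [if_pos a, ← a] at h1
      exact ⟨a.symm, fun b => by simp [b] at h1⟩
    · simp [a] at h1
  · rintro ⟨h1, h2⟩
    rw [h1, if_neg h2]; rfl

theorem mono_inj : Function.Injective fun p : M24 × U => mono p.1 p.2 := by
  rintro ⟨σ, c⟩ ⟨τ, d⟩ h
  have h1 : ∀ i, σ • i = τ • i ∧ (σ • i ∈ c.1 ↔ σ • i ∈ d.1) := by
    intro i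
    have := congrArg (fun g : Co0 => ((g • f8 i : Λ) : V) (σ • i)) h
    simp only [mono_f8, Pi.single_apply, if_true] at this
    by_cases a : σ • i = τ • i
    · refine ⟨a, ?_⟩
      rw [if_pos a, ← a] at this
      split_ifs at this <;> simp_all
    · rw [if_neg a] at this
      split_ifs at this <;> omega
  refine Prod.ext (Subtype.ext (Equiv.ext fun i => (h1 i).1)) (Subtype.ext ?_)
  ext i
  simpa using (h1 (σ⁻¹ • i)).2

theorem card_mono {H : Subgroup Co0} {K : Subgroup M24} {φ : Finset GolayPt → Prop}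
    (h1 : ∀ g ∈ H, ∃ σ c, g = mono σ c) (h2 : ∀ σ c, mono σ c ∈ H ↔ σ ∈ K ∧ φ c) :
    Nat.card H = Nat.card K * {c | c ∈ U ∧ φ c}.ncard := by
  rw [← Nat.card_coe_set_eq, ← Nat.card_prod]
  refine (Nat.card_congr (Equiv.ofBijective (fun p : K × {c | c ∈ U ∧ φ c} =>
    (⟨mono p.1 ⟨p.2, p.2.2.1⟩, (h2 _ _).2 ⟨p.1.2, p.2.2.2⟩⟩ : H)) ⟨fun p q e => ?_, fun g => ?_⟩)).symm
  · have := mono_inj (a₁ := (p.1, ⟨p.2, p.2.2.1⟩)) (a₂ := (q.1, ⟨q.2, q.2.2.1⟩)) (congrArg Subtype.val e)
    simp only [Prod.mk.injEq, Subtype.mk.injEq] at this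
    exact Prod.ext (Subtype.ext this.1) (Subtype.ext this.2)
  · obtain ⟨σ, c, e⟩ := h1 g g.2
    have := (h2 σ c).1 (e ▸ g.2)
    exact ⟨(⟨σ, this.1⟩, ⟨c, c.2, this.2⟩), Subtype.ext e.symm⟩

end CfsgH7.Lee
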