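import Cfsg.Agent.H7.Lee.Rho
import Cfsg.Agent.H7.Lee.D0
import Cfsg.Agent.H7.Lee.D1
import Cfsg.Agent.H7.Lee.D2

/-! The action on all minimal vectors; orders of the vector stabilisers. -/

set_option autoImplicit false
set_option maxRecDepth 100000

namespace CfsgH7.Lee

open Cfsg CfsgH7.Gol MulAction Matrix
open scoped Pointwise

attribute [-simp] Fintype.sum_option

noncomputable def lB : List Net := [nB0, nB1, nB2, nB3]

/-- The minimal vectors. -/
def Mn : Set Λ := {x | sqNorm (x : V) = 32}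

theorem smul_Mn (g : Co0) {x : Λ} : g • x ∈ Mn ↔ x ∈ Mn := by
  show _ = _ ↔ _ = _
  rw [g_norm]

theorem neg_Mn {x : Λ} : -x ∈ Mn ↔ x ∈ Mn := by
  show _ = _ ↔ _ = _
  rw [AddSubgroup.coe_neg, sq_neg]

theorem card_Mn : Mn.ncard = 196560 := (ncard_L fun x => sqNorm x = 32).trans n32

abbrev uU : Λ := Spor.leechU
abbrev uW : Λ := Spor.leechU'
abbrev uV : Λ := Spor.leechV
def LU : List Nat := [4,0,0,0,0,0,0,0,0,0,0,0,0,0,0,0,0,0,0,0,0,0,0,4]
def LW : List Nat := [3,0,0,0,0,0,0,0,0,0,0,0,0,0,0,0,0,0,0,0,0,0,0,4]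
def LV : List Nat := [6,6,6,6,6,6,6,6,6,6,6,6,6,6,6,6,6,6,6,6,6,6,6,2]
theorem rdU : Rd uU LU := by decide +kernel
theorem rdW : Rd uW LW := by decide +kernel
theorem rdV : Rd uV LV := by decide +kernel
theorem nU : uU ∈ Mn := show _ = _ by decide +kernel
theorem nW : uW ∈ Mn := show _ = _ by decide +kernel
theorem nV : sqNorm (uV : V) = 48 := by decide +kernel

def W4 : List (List Nat) := [[0], [2], [4], [6]]

theorem gB_eq : (fun k => wprod gc (wordAt W4 k)) = gc := by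
  funext k
  rcases k with _ | _ | _ | _ | k
  · exact mul_one _
  · exact mul_one _
  · exact mul_one _
  · exact mul_one _
  · exact (map_one mo).symm

theorem vB0 : (arP 7).vecK 196560 24 Ms PB (netAt lB 0) (wordAt W4 0) = true := by decide +kernel

theorem vB1 : (arP 7).vecK 196560 24 Ms PB (netAt lB 1) (wordAt W4 1) = true := by decide +kernel

theorem vB2 : (arP 7).vecK 196560 24 Ms PB (netAt lB 2) (wordAt W4 2) = true := by decide +kernel

theorem vB3 : (arP 7).vecK 196560 24 Ms PB (netAt lB 3) (wordAt W4 3) = true := by decide +kernel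

theorem exB : ∃ pt, LR Mn pt 196560 gc lB PB := gB_eq ▸
  LR.of (fun _ h => h) W4 (fun _ _ h => (smul_Mn _).2 h) (by decide +kernel) (by decide +kernel)
    (fun k hk => by
      have : k < 4 := hk
      interval_cases k
      exacts [vB0, vB1, vB2, vB3])
    nU 191105 (by decide +kernel) W4 [0,3,0,2,0,3,1,0,2,3,0,1,2,0,3,2,0,1,3,0,2,0,1,3,0,2,0] (by decide +kernel) card_Mn.le

/-- The numbered minimal vectors. -/
noncomputable def ptB : Nat → Λ := exB.choose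

theorem hB : LR Mn ptB 196560 gc lB PB := exB.choose_spec

theorem tr32 {x y : Λ} (hx : x ∈ Mn) (hy : y ∈ Mn) : ∃ g : Co0, g • x = y := by
  obtain ⟨g, _, h⟩ := hB.fam.tr2 hB.rep (mem_top' W4) (Rb.all _ _) [0,3,0,2,0,3,1,0,2,3,0,1,2,0,3,2,0,1,3,0,2,0,1,3,0,2,0] 191105 (by decide +kernel)
    x hx y hy trivial trivial
  exact ⟨g, h⟩

theorem stab_neg (v : Λ) : stabilizer Co0 (-v) = stabilizer Co0 v := by
  ext g; simp [g_neg]

theorem dot_fix {g : Co0} {v : Λ} (h : g • v = v) (x : Λ) :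
    dotInt (v : V) ((g • x : Λ) : V) = dotInt (v : V) (x : V) := by
  conv_lhs => rw [← h]
  exact g_dot g v x

theorem dot_negL (v x : Λ) : dotInt (v : V) ((-x : Λ) : V) = -dotInt (v : V) (x : V) := dot_neg _ _

theorem neg_dotL (v x : Λ) : dotInt ((-v : Λ) : V) (x : V) = -dotInt (v : V) (x : V) := neg_dot _ _

/-- Transitivity of a group on the minimal vectors with a property. -/
def Tr (K : Subgroup Co0) (ψ : Λ → Prop) : Prop := ∀ x ∈ Mn, ∀ y ∈ Mn, ψ x → ψ y → ∃ g ∈ K, g • x = y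

theorem Tr.neg {K : Subgroup Co0} {ψ χ : Λ → Prop} (h : Tr K ψ) (e : ∀ x, χ x → ψ (-x)) : Tr K χ :=
  fun x hx y hy a b => by
    obtain ⟨g, h1, h2⟩ := h _ (neg_Mn.2 hx) _ (neg_Mn.2 hy) (e x a) (e y b)
    exact ⟨g, h1, neg_injective (by rw [← g_neg, h2])⟩

theorem Tr.orbit {K : Subgroup Co0} {ψ : Λ → Prop} (h : Tr K ψ) {a : Λ} (ha : a ∈ Mn) (h0 : ψ a)
    (hi : ∀ g ∈ K, ψ (g • a)) : orbit K a = {x | x ∈ Mn ∧ ψ x} :=
  orbit_eq_of (fun y hy => h a ha y hy.1 h0 hy.2) fun g hg => ⟨(smul_Mn g).2 ha, hi g hg⟩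

theorem Tr.card {K : Subgroup Co0} {v a : Λ} {d : ℤ} (h : Tr K fun x => dotInt (v : V) (x : V) = d)
    (hK : K ≤ stabilizer Co0 v) (ha : a ∈ Mn ∧ dotInt (v : V) (a : V) = d) {c : Nat}
    (hc : {x | x ∈ Mn ∧ dotInt (v : V) (x : V) = d}.ncard = c) :
    Nat.card K = c * Nat.card (K ⊓ stabilizer Co0 a : Subgroup Co0) := by
  rw [card_eq_orbit_mul K a, h.orbit ha.1 ha.2 fun g hg => (dot_fix (hK hg) a).trans ha.2, hc]

def W2 : List (List Nat) := [[4],[0,2,1,6]]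
theorem mem2 : ∀ w ∈ W2, wprod gc w ∈ stabilizer Co0 uU := words_fix rdU (by decide +kernel) (by decide +kernel)
def W3 : List (List Nat) := [[0],[2,1,1,6,1,6,2]]
theorem mem3 : ∀ w ∈ W3, wprod gc w ∈ stabilizer Co0 uV := words_fix rdV (by decide +kernel) (by decide +kernel)

theorem trU16 : Tr (stabilizer Co0 uU) fun x => dotInt (uU : V) (x : V) = -16 :=
  hB.fam.tr2 hB.rep mem2 (hB.dot (v := uU) (d := -16) LU 5 (by decide +kernel))
    [0,0,0,0,1,0,0,0,0,1,0,0,0,0,1,0,0,0,0,1,0,0,0,0,1,0,0,0,0,1,0,0,0,0,1,0,0,1] 0 (by decide +kernel)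

theorem ctU16 : {x | x ∈ Mn ∧ dotInt (uU : V) (x : V) = -16}.ncard = 4600 :=
  hB.fam.ncard' (hB.dot (v := uU) (d := -16) LU 5 (by decide +kernel)) 18 (by decide +kernel)

theorem trU8 : Tr (stabilizer Co0 uU) fun x => dotInt (uU : V) (x : V) = -8 :=
  hB.fam.tr2 hB.rep mem2 (hB.dot (v := uU) (d := -8) LU 6 (by decide +kernel))
    [0,0,0,0,1,0,0,0,0,1,0,0,0,0,1,0,0,0,0,1,0,0,0,0,1,0,0,0,0,1,0,0,0,0,1,0,0,0,0,1,0,0,0,0,1] 2 (by decide +kernel)

theorem ctU8 : {x | x ∈ Mn ∧ dotInt (uU : V) (x : V) = -8}.ncard = 47104 :=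
  hB.fam.ncard' (hB.dot (v := uU) (d := -8) LU 6 (by decide +kernel)) 18 (by decide +kernel)

theorem trU0 : Tr (stabilizer Co0 uU) fun x => dotInt (uU : V) (x : V) = 0 :=
  hB.fam.tr2 hB.rep mem2 (hB.dot (v := uU) (d := 0) LU 0 (by decide +kernel))
    [0,0,0,0,1,0,0,0,0,1,0,0,0,0,1,0,0,0,0,1,0,0,0,0,1,0,0,0,0,1,0,0,0,0,1,0,0,0,0,1,0,0,0,0,1,0] 3 (by decide +kernel)

theorem ctU0 : {x | x ∈ Mn ∧ dotInt (uU : V) (x : V) = 0}.ncard = 93150 :=
  hB.fam.ncard' (hB.dot (v := uU) (d := 0) LU 0 (by decide +kernel)) 18 (by decide +kernel)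

theorem trV24 : Tr (stabilizer Co0 uV) fun x => dotInt (uV : V) (x : V) = 24 :=
  hB.fam.tr2 hB.rep mem3 (hB.dot (v := uV) (d := 24) LV 3 (by decide +kernel))
    [0,0,0,0,0,0,0,0,0,0,1,0,0,0,0,0,0,0,0,0,1,0,0,0,0,0,0,0,0,0,0,0,0,0,0,0,0,0,0,0,0,0,0] 576 (by decide +kernel)

theorem ctV24 : {x | x ∈ Mn ∧ dotInt (uV : V) (x : V) = 24}.ncard = 552 :=
  hB.fam.ncard' (hB.dot (v := uV) (d := 24) LV 3 (by decide +kernel)) 18 (by decide +kernel)

theorem trV16 : Tr (stabilizer Co0 uV) fun x => dotInt (uV : V) (x : V) = 16 :=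
  hB.fam.tr2 hB.rep mem3 (hB.dot (v := uV) (d := 16) LV 2 (by decide +kernel))
    [0,0,0,0,0,0,0,0,0,1,0,0,0,0,0,0,0,0,0,1,0,0,0,0,0,0,0,0,0,1,0,0,0,0,0,0,0,0,0,0,0,1,0,0,0,0,0] 0 (by decide +kernel)

theorem ctV16 : {x | x ∈ Mn ∧ dotInt (uV : V) (x : V) = 16}.ncard = 11178 :=
  hB.fam.ncard' (hB.dot (v := uV) (d := 16) LV 2 (by decide +kernel)) 18 (by decide +kernel)

theorem dot_self {v x : Λ} (hv : v ∈ Mn) (hx : x ∈ Mn) (h : 16 < dotInt (v : V) (x : V)) : x = v := by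
  by_contra e
  have := (dot_cases hx (Or.inl hv)).2.1 (Ne.symm e)
  rw [show sqNorm (v : V) = 32 from hv] at this
  omega

theorem trU (d : ℤ) : Tr (stabilizer Co0 uU) fun x => dotInt (uU : V) (x : V) = d := by
  intro x hx y hy a b
  by_cases h1 : 16 < d
  · exact ⟨1, one_mem _, by rw [dot_self nU hx (by omega), dot_self nU hy (by omega), one_smul]⟩
  by_cases h2 : d < -16
  · exact ⟨1, one_mem _, neg_injective (by
      rw [dot_self nU (neg_Mn.2 hy) (by rw [dot_negL]; omega), one_smul,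
        dot_self nU (neg_Mn.2 hx) (by rw [dot_negL]; omega)])⟩
  have := dvd8 uU.2 x.2
  have : d = -16 ∨ d = -8 ∨ d = 0 ∨ d = 8 ∨ d = 16 := by omega
  rcases this with rfl | rfl | rfl | rfl | rfl
  · exact trU16 x hx y hy a b
  · exact trU8 x hx y hy a b
  · exact trU0 x hx y hy a b
  · exact trU8.neg (χ := fun x => dotInt (uU : V) (x : V) = 8) (fun x e => by rw [dot_negL, e]) x hx y hy a b
  · exact trU16.neg (χ := fun x => dotInt (uU : V) (x : V) = 16) (fun x e => by rw [dot_negL, e]) x hx y hy a b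

theorem pair_of {u a v x : Λ} {d : ℤ} (h : Tr (stabilizer Co0 u) fun x => dotInt (u : V) (x : V) = d)
    (h1 : ∃ c : Co0, c • u = v) (ha : a ∈ Mn ∧ dotInt (u : V) (a : V) = d) (hx : x ∈ Mn)
    (hd : dotInt (v : V) (x : V) = d) : ∃ c : Co0, c • u = v ∧ c • a = x := by
  obtain ⟨c, rfl⟩ := h1
  obtain ⟨x, rfl⟩ := ex_smul c x
  rw [g_dot] at hd
  obtain ⟨g, h2, rfl⟩ := h a ha.1 x ((smul_Mn c).1 hx) ha.2 hd
  exact ⟨c * g, by rw [mul_smul, h2], mul_smul _ _ _⟩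

theorem pair32 {v w v' w' : Λ} (hv : v ∈ Mn) (hw : w ∈ Mn) (hv' : v' ∈ Mn) (hw' : w' ∈ Mn)
    (h : dotInt (v : V) (w : V) = dotInt (v' : V) (w' : V)) : ∃ g : Co0, g • v = v' ∧ g • w = w' := by
  obtain ⟨c, rfl⟩ := tr32 nU hv
  obtain ⟨w, rfl⟩ := ex_smul c w
  rw [g_dot] at h
  obtain ⟨g, h1, h2⟩ := pair_of (trU _) (tr32 nU hv') ⟨(smul_Mn c).1 hw, rfl⟩ hw' h.symm
  exact ⟨g * c⁻¹, by simp [mul_smul, h1], by simp [mul_smul, h2]⟩

theorem two_injL {x y : Λ} (h : x + x = y + y) : x = y :=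
  Subtype.ext (two_inj (by rw [two_zsmul, two_zsmul]; exact congrArg Subtype.val h))

theorem fixUW {g : Co0} : g ∈ stabilizer Co0 uU ⊓ stabilizer Co0 uW ↔
    g • f8 (px 23) = f8 (px 23) ∧ g • f8 (px 0) = f8 (px 0) := by
  have e1 : f8 (px 23) = uU + uW := Subtype.ext (funext (by decide +kernel))
  have e2 : f8 (px 0) = uU - uW := Subtype.ext (funext (by decide +kernel))
  rw [e1, e2, g_add, g_sub]
  refine ⟨fun h => by rw [h.1, h.2]; exact ⟨rfl, rfl⟩, fun h => ⟨two_injL ?_, two_injL ?_⟩⟩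
  · linear_combination (norm := abel1) h.1 + h.2
  · linear_combination (norm := abel1) h.1 - h.2

theorem cardUW : Nat.card (stabilizer Co0 uU ⊓ stabilizer Co0 uW : Subgroup Co0) = 443520 * 1024 := by
  rw [card_mono (K := K22) (φ := fun c => ¬ px 23 ∈ c ∧ ¬ px 0 ∈ c)
    (fun g h => NM_mono (NM_of (by rw [(fixUW.1 h).1]; exact f8_std _)))
    (fun σ c => by rw [fixUW, mono_fix, mono_fix]; exact and_and_and_comm), card22,
    FC.ncard' ((rbP (by norm_num)).not.and (rbP (by norm_num)).not) 12 (c := 1024) (by decide +kernel)]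

theorem card2 : Nat.card (stabilizer Co0 uU) = 42305421312000 := by
  rw [trU0.card le_rfl (a := uW) ⟨nW, by decide +kernel⟩ ctU0, cardUW]

theorem card0 : Nat.card Co0 = 8315553613086720000 := by
  rw [← Subgroup.card_top, card_eq_orbit_mul ⊤ uU, top_inf_eq, card2, orbit_eq_of (A := Mn)
    (fun y hy => by obtain ⟨g, h⟩ := tr32 nU hy; exact ⟨g, trivial, h⟩) fun g _ => (smul_Mn g).2 nU, card_Mn]

theorem stab_add (u v : Λ) : stabilizer Co0 (u + v) ⊓ stabilizer Co0 u = stabilizer Co0 u ⊓ stabilizer Co0 v := by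
  ext g
  simp only [Subgroup.mem_inf, mem_stabilizer_iff, g_add]
  exact ⟨fun h => ⟨h.2, by simpa [h.2] using h.1⟩, fun h => ⟨by rw [h.1, h.2], h.1⟩⟩

theorem cardM : Nat.card (stabilizer Co0 uV ⊓ stabilizer Co0 uU : Subgroup Co0) = 898128000 := by
  have := trU8.card le_rfl (a := -(uV + uU)) ⟨show _ = _ by decide +kernel, by decide +kernel⟩ ctU8
  rw [card2, stab_neg, inf_comm, add_comm, stab_add, inf_comm] at this
  omega

theorem card3 : Nat.card (stabilizer Co0 uV) = 495766656000 := by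
  rw [trV24.card le_rfl (a := -uU) ⟨neg_Mn.2 nU, by decide +kernel⟩ ctV24, stab_neg, cardM]

theorem cardH : Nat.card (stabilizer Co0 uV ⊓ stabilizer Co0 uW : Subgroup Co0) = 44352000 := by
  have := trV16.card le_rfl (a := -uW) ⟨neg_Mn.2 nW, by decide +kernel⟩ ctV16
  rw [card3, stab_neg] at this
  omega

theorem tr_of_card {v : Λ} {s c : Nat} (h1 : Nat.card (stabilizer Co0 v) = s)
    (h2 : {x : V | x ∈ Λ ∧ sqNorm x = sqNorm (v : V)}.ncard = c) (h : c * s = 8315553613086720000) {x : Λ}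
    (hx : sqNorm (x : V) = sqNorm (v : V)) : ∃ g : Co0, g • v = x := by
  have h3 := card_eq_orbit_mul (⊤ : Subgroup Co0) v
  rw [top_inf_eq, Subgroup.card_top, card0, h1, ← h, orbit_top_eq] at h3
  have : orbit Co0 v = {x : Λ | sqNorm (x : V) = sqNorm (v : V)} :=
    Set.eq_of_subset_of_ncard_le (by rintro _ ⟨g, rfl⟩; exact g_norm g v) (by
      rw [ncard_L fun x => sqNorm x = sqNorm (v : V), h2]
      exact (Nat.eq_of_mul_eq_mul_right (by rw [← h1]; exact Nat.card_pos) h3).le) (finite_normL _)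
  exact this.symm.subset hx

theorem tr48 {x : Λ} (hx : sqNorm (x : V) = 48) : ∃ g : Co0, g • uV = x :=
  tr_of_card card3 (by rw [nV, n48]) (by norm_num) (by rw [nV, hx])

theorem card4 : Nat.card (stabilizer Co0 (f8 (px 23))) = 10200960 * 2048 := by
  rw [card_mono (K := K23) (φ := fun c => ¬ px 23 ∈ c)
    (fun g h => NM_mono (NM_of (by rw [show g • f8 (px 23) = _ from h]; exact f8_std _)))
    (fun σ c => mono_fix), card23, FC.ncard' (rbP (by norm_num)).not 12 (c := 2048) (by decide +kernel)]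

theorem tr64 {x : Λ} (hx : sqNorm (x : V) = 64) : ∃ g : Co0, g • f8 (px 23) = x :=
  tr_of_card card4 (by rw [(std_mem (f8_std _)).2, n64]) (by norm_num) (by rw [(std_mem (f8_std _)).2, hx])

theorem tr48n {x : Λ} (hx : sqNorm (x : V) = 48) : ∃ g : Co0, g • -uV = x := by
  obtain ⟨g, h⟩ := tr48 (x := -x) (by rwa [AddSubgroup.coe_neg, sq_neg])
  exact ⟨g, by rw [g_neg, h, neg_neg]⟩

end CfsgH7.Lee
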