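import Cfsg.Agent.H7.Lee.Sub
import Cfsg.Agent.H7.Blk2
import Cfsg.Agent.H7.OutE
import Cfsg.Agent.H7.Lee.E0
import Cfsg.Agent.H7.Lee.E1

/-! The action on pairs of minimal vectors. -/

set_option autoImplicit false
set_option maxRecDepth 100000
set_option Elab.async false

namespace CfsgH7.Co2

open Cfsg CfsgH7.Lee

def bsv : List Nat := [6,3,2,1,0]
theorem Mv : Md pv 4600 g lv 5 42305421312000 bsv :=
  Md.of Rv hL.fam.inj card 5 [⟨0, [[0],[2],[4],[6],[8]], [0,1,2,4,0,3,1,0,4,2,3,1,0,4,3,0,1,4,0], 4600⟩,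
  ⟨1, [[4,6,4],[0,2,2,4],[2,8,3,6,4,8,4,6,1,4,2,8,4,1]], [0,1,0,1,0,1,0,1,0,1,0,1,0,1,0,1,0,1,2,0,1,0,1,1,1,0,1,1,1,1], 891⟩,
  ⟨2, [[1,4,0,2,8,2,8],[1,8,1,6,0,8,0],[0,3,4,2,0,3,4,2],[3,1,3,6,2,6,0,2],[0,2,2,4,0,2,2,4,2,8,3,6,4,8,4,6,1,4,2,8,4,2,2,4,0,4,8,3,4,0,6,4,8,4,6,2,8,3,0,4,8,3,4,0,6,4,8,4,6,2,8,3,0,2,2,4,2,8,3,6,4,8,4,6,1,4,2,8,4,1,2,8,3,6,4,8,4,6,1,4,2,8,4,2,2,6,4]], [0,1,2,3,0,1,2,3,0,1,2,3,0,2,3,4,1,0], 1792⟩,
  ⟨3, [[6,8,1,3,8,3,8,0,8,6],[2,8,4,0,4,1,6,0,0,2,6,8],[1,8,1,6,0,8,0,0,3,4,2,0,3,4,1,6,3,6,2,0,4,2,1,3,4,2,1,3,1,6,3,6,2,0,2,1,8,1,6,0,8,0],[4,6,4,0,2,2,4,0,2,2,6,3,3,1,4,3,3,1,4,6,3,3,1,4,3,3,1,4,6,4,0,4,8,3,4,0,6,4,8,4,6,2,8,3,4,3,3,1,4,3,3,1,4,6,3,3,4,8,3,4,0,6,4,8,4,6,2,8,3,4,3,3,4,8,3,4,0,6,4,8,4,6,2,8,3,0,2,2,6,3,3,1,4,6,4,0,2,2,4],[4,6,4,0,2,2,4,0,2,2,4,0,4,8,3,4,0,6,4,8,4,6,2,8,3,4,6,4,0,4,8,3,4,0,6,4,8,4,6,2,8,3,0,2,2,6,3,3,1,4,6,3,3,1,4,3,3,1,4,6,3,3,4,8,3,4,0,6,4,8,4,6,2,8,3,4,6,4,0,2,2,4,2,8,3,6,4,8,4,6,1,4,2,8,4,1,4,3,3,1]],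 [0,1,0,2,1,0,4,0,1,2,4,0,1,3], 320⟩,
  ⟨6, [[4,3,3,1,4,3,3,4,8,3,4,0,6,4,8,4,6,2,8,3,0,2,2,6,4,0,2,2,6,3,3,1,2,8,3,6,4,8,4,6,1,4,2,8,4,1,4,6,4,2,8,3,6,4,8,4,6,1,4,2,8,4,2,2,4,0,2,2,6,3,3,1,4,6,4,0,2,2,4],[4,3,3,1,4,3,3,1,4,6,4,0,2,2,6,4,0,2,2,6,4,0,2,2,4,0,2,2,6,3,3,1,2,8,3,6,4,8,4,6,1,4,2,8,4,1,4,3,3,1,4,3,3,1,4,6,3,3,1,4,3,3,1,4,6,3,3,1,4,6,3,3,1,4,6,4,0,2,2,4],[4,6,4,2,8,3,6,4,8,4,6,1,4,2,8,4,1,4,3,3,1,2,8,3,6,4,8,4,6,1,4,2,8,4,1,4,3,3,1,4,6,4,0,2,2,4,0,2,2,6,3,3,1,4,3,3,1,4,6,4,0,2,2,4,0,4,8,3,4,0,6,4,8,4,6,2,8,3,0,2,2,4,0,4,8,3,4,0,6,4,8,4,6,2,8,3,4,6,4]], [0,1,2,0,1], 18⟩] 13 bsv (by decide +kernel)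

end CfsgH7.Co2

namespace CfsgH7.Co1

open Cfsg CfsgH7.Lee CfsgH7.Gol MulAction
open scoped Pointwise

attribute [-simp] Fintype.sum_option

noncomputable def l : List Net := [n0, n1, n2, n3]
theorem hpi : band piN.ok (netsPres [piN] (2 * 98280)) = true := by decide +kernel
theorem bk0 : nall (blkJ (netAt lB 0) (netAt l 0) piN 98280 17) 17 = true := by decide +kernel
theorem bk1 : nall (blkJ (netAt lB 1) (netAt l 1) piN 98280 17) 17 = true := by decide +kernel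
theorem bk2 : nall (blkJ (netAt lB 2) (netAt l 2) piN 98280 17) 17 = true := by decide +kernel
theorem bk3 : nall (blkJ (netAt lB 3) (netAt l 3) piN 98280 17) 17 = true := by decide +kernel
noncomputable def pt : Nat → Set Λ := blk ptB piN 98280
theorem R : Rep pt 98280 gc l := Rep.blocks (m := 98280) hB.rep piN l 17 (band_iff.2 ⟨hpi, by decide +kernel⟩)
  (show ∀ j < 4, _ from by
    intro j hj
    interval_cases j
    · exact nall_iff.1 bk0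
    · exact nall_iff.1 bk1
    · exact nall_iff.1 bk2
    · exact nall_iff.1 bk3)
theorem inj : ∀ i < 98280, ∀ j < 98280, pt i = pt j → i = j := blk_inj (m := 98280) hB.fam.inj hpi

theorem le_gen : Lee.K2 ≤ genW gc (gensW 4) := by
  intro x hx
  have h1 : offE o2 ⟨x, hx⟩ ∈ genW Co2.g (gensW 5) := Co2.M0.gen ▸ Subgroup.mem_top _
  have h2 := Subgroup.mem_map_of_mem (Lee.K2.subtype.comp (offE o2).symm.toMonoidHom) h1
  rw [genW_map] at h2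
  refine (gensW_le fun j _ => ?_ : _ ≤ genW gc (gensW 4)) (by simpa using h2)
  have : wprod gc (wordAt WC2 j) ∈ genW gc (gensW 4) := wordAt_in (fun w hw => wprod_mem fun a ha =>
    mem_gensW _ ((show ∀ w ∈ WC2, ∀ a ∈ w, a / 2 < 4 by decide +kernel) w hw a ha)) j
  simpa [Co2.g, og, sg] using this

theorem gen : genW gc (gensW 4) = ⊤ := eq_top_iff.2 fun x _ => by
  obtain ⟨y, h1, h2⟩ := hB.fam.tr2 hB.rep (K := genW gc (gensW 4)) (W := gensW 4) (fun _ h => mem_genW _ h) (Rb.all _ _)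
    [0,3,0,2,0,3,1,0,2,3,0,1,2,0,3,2,0,1,3,0,2,0,1,3,0,2,0] 191105 (by decide +kernel) uU nU _ ((smul_Mn x).2 nU) trivial trivial
  have : y⁻¹ * x ∈ Lee.K2 := by rw [mem_stabilizer_iff, mul_smul, ← h2, inv_smul_smul]
  simpa using Subgroup.mul_mem _ h1 (le_gen this)

theorem pm {x : Co0} {a : Nat} (h : x • pt a = pt a) (i j : Nat) (L : List ℤ) (hL : chk (lv L))
    (hc : band (Nat.blt a 98280) (band (Nat.blt i (2 * 98280))
      (band (Nat.beq (piN.ap i) a) (Nat.beq (piN.ap j) (a + 98280)))) = true ∨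
      band (Nat.blt a 98280) (band (Nat.blt j (2 * 98280))
      (band (Nat.beq (piN.ap j) a) (Nat.beq (piN.ap i) (a + 98280)))) = true)
    (h1 : sqNorm (lw L hL : V) = 32 ∧ i < 196560 ∧ Rd (lw L hL) (vAt PB i))
    (h2 : sqNorm ((-lw L hL : Λ) : V) = 32 ∧ j < 196560 ∧ Rd (-lw L hL) (vAt PB j)) :
    x • lw L hL = lw L hL ∨ x • lw L hL = -lw L hL := by
  rcases hc with hc | hc
  · have := blk_fix hpi h i j hc
    rwa [hB.pt_eq i h1, hB.pt_eq j h2] at this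
  · have := blk_fix hpi h j i hc
    rwa [hB.pt_eq i h1, hB.pt_eq j h2, g_neg, neg_inj, neg_eq_iff_eq_neg] at this

theorem pm' {x : Co0} {v : Λ} (hx : x • uU = uU) (h : x • v = v ∨ x • v = -v)
    (hd : dotInt (uU : V) (v : V) = -16) : x • v = v :=
  h.resolve_right fun e => by have := dot_fix hx v; rw [e, dot_negL, hd] at this; omega

def bs : List Nat := [5728,302,82,49,40,0]

theorem neg1_pm {x : Co0} {v : Λ} (h : x • v = v ∨ x • v = -v) : (neg1 * x) • v = v ∨ (neg1 * x) • v = -v := by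
  rw [mul_smul, neg1_smul, neg_eq_iff_eq_neg, neg_inj]; exact h.symm

theorem hB0 (x : Co0) (h : ∀ b ∈ bs, x • pt b = pt b) : x ∈ Subgroup.zpowers neg1 := by
  have a0 := pm (h 5728 (by decide)) 191105 5800 [4, 0, 0, 0, 0, 0, 0, 0, 0, 0, 0, 0, 0, 0, 0, 0, 0, 0, 0, 0, 0, 0, 0, 4] (by decide +kernel) (by decide +kernel) (by decide +kernel)
    (by decide +kernel)
  have a1 := pm (h 302 (by decide)) 303 18784 [-2, 0, 0, 0, 2, -2, 0, 0, 0, 0, 0, 0, 0, 0, 0, 0, 0, -2, 0, 2, 0, -2, -2, -2] (by decide +kernel) (by decide +kernel) (by decide +kernel)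
    (by decide +kernel)
  have a2 := pm (h 82 (by decide)) 82 196180 [-2, 0, 0, 0, 0, 0, 2, -2, 0, 0, 2, 0, 2, 0, 0, -2, 0, 0, 2, 0, 0, 0, 0, -2] (by decide +kernel) (by decide +kernel) (by decide +kernel)
    (by decide +kernel)
  have a3 := pm (h 49 (by decide)) 49 184660 [-3, -1, 1, 1, -1, 1, -1, -1, 1, 1, 1, -1, -1, -1, -1, 1, -1, -1, 1, 1, 1, 1, -1, -1] (by decide +kernel) (by decide +kernel) (by decide +kernel)
    (by decide +kernel)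
  have a4 := pm (h 40 (by decide)) 40 120712 [-3, 1, 1, 1, -1, 1, 1, -1, 1, -1, -1, -1, -1, 1, -1, -1, 1, 1, -1, -1, 1, -1, 1, -1] (by decide +kernel) (by decide +kernel) (by decide +kernel)
    (by decide +kernel)
  have a5 := pm (h 0 (by decide)) 0 73835 [-1, -1, 1, -1, 1, -1, -1, -1, 1, 1, -1, 1, -1, -1, 1, 1, -1, 1, -1, 1, -1, 1, 1, -3] (by decide +kernel) (by decide +kernel) (by decide +kernel)
    (by decide +kernel)
  rw [show lw _ _ = uU from Subtype.ext (funext (by decide +kernel))] at a0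
  have key : ∀ y : Co0, y • uU = uU → (∀ b ∈ Co2.bsv, y • Co2.pv b = Co2.pv b ∨ y • Co2.pv b = -Co2.pv b) → y = 1 :=
    fun y h0 h1 => congrArg Subtype.val ((offE o2).map_eq_one_iff.1 (Co2.Mv.base (offE o2 ⟨y, h0⟩) trivial fun b hb =>
      pm' h0 (h1 b hb) (Co2.hL.fam.mem b (Co2.Mv.hbs b hb)).2))
  have a : ∀ b ∈ Co2.bsv, x • Co2.pv b = Co2.pv b ∨ x • Co2.pv b = -Co2.pv b := by
    intro b hb
    simp only [Co2.bsv, List.mem_cons, List.not_mem_nil, or_false] at hb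
    rcases hb with rfl | rfl | rfl | rfl | rfl
    · rw [Co2.hL.pt_eq (v := lw [-2, 0, 0, 0, 2, -2, 0, 0, 0, 0, 0, 0, 0, 0, 0, 0, 0, -2, 0, 2, 0, -2, -2, -2] (by decide +kernel)) 6 (by decide +kernel)]; exact a1
    · rw [Co2.hL.pt_eq (v := lw [-2, 0, 0, 0, 0, 0, 2, -2, 0, 0, 2, 0, 2, 0, 0, -2, 0, 0, 2, 0, 0, 0, 0, -2] (by decide +kernel)) 3 (by decide +kernel)]; exact a2
    · rw [Co2.hL.pt_eq (v := lw [-3, -1, 1, 1, -1, 1, -1, -1, 1, 1, 1, -1, -1, -1, -1, 1, -1, -1, 1, 1, 1, 1, -1, -1] (by decide +kernel)) 2 (by decide +kernel)]; exact a3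
    · rw [Co2.hL.pt_eq (v := lw [-3, 1, 1, 1, -1, 1, 1, -1, 1, -1, -1, -1, -1, 1, -1, -1, 1, 1, -1, -1, 1, -1, 1, -1] (by decide +kernel)) 1 (by decide +kernel)]; exact a4
    · rw [Co2.hL.pt_eq (v := lw [-1, -1, 1, -1, 1, -1, -1, -1, 1, 1, -1, 1, -1, -1, 1, 1, -1, 1, -1, 1, -1, 1, 1, -3] (by decide +kernel)) 0 (by decide +kernel)]; exact a5
  rcases a0 with a0 | a0
  · rw [key x a0 a]; exact one_mem _
  · rw [← inv_eq_of_mul_eq_one_right (key (neg1 * x) (by rw [mul_smul, a0, neg1_smul, neg_neg]) fun b hb => neg1_pm (a b hb))]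
    exact inv_mem (Subgroup.mem_zpowers _)

theorem neg1_sq : neg1 * neg1 = 1 := g_ext fun x => by rw [mul_smul, neg1_smul, neg1_smul, neg_neg, one_smul]

theorem neg1_ne : neg1 ≠ 1 := fun e => by
  have := neg1_smul uU
  rw [e, one_smul] at this
  exact absurd (congrFun (congrArg Subtype.val this) none) (by decide +kernel)

theorem neg1_cen : neg1 ∈ Subgroup.center Co0 :=
  Subgroup.mem_center_iff.2 fun y => g_ext fun x => by rw [mul_smul, mul_smul, neg1_smul, neg1_smul, g_neg]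

theorem card_neg : Nat.card (Subgroup.zpowers neg1) = 2 := by
  rw [Nat.card_zpowers, orderOf_eq_two' neg1_sq neg1_ne]

theorem mem_neg {x : Co0} (h : x ∈ Subgroup.zpowers neg1) : x = 1 ∨ x = neg1 := by
  obtain ⟨m, hm, rfl⟩ := zpow_nat (p := 2) (by norm_num) (by rw [sq, neg1_sq]) h
  interval_cases m <;> simp

def wn : List Nat := [4,6,1,4,6,1,4,6,1,4,6,1,4,6,1,4,6,1,4,6,1]
theorem tn0 : agreeJ l l 98280 17 wn [] 0 = true := by decide +kernel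
theorem tn1 : agreeJ l l 98280 17 wn [] 1 = true := by decide +kernel
theorem tn2 : agreeJ l l 98280 17 wn [] 2 = true := by decide +kernel
theorem tn3 : agreeJ l l 98280 17 wn [] 3 = true := by decide +kernel
theorem tn4 : agreeJ l l 98280 17 wn [] 4 = true := by decide +kernel
theorem tn5 : agreeJ l l 98280 17 wn [] 5 = true := by decide +kernel
theorem tn6 : agreeJ l l 98280 17 wn [] 6 = true := by decide +kernel
theorem tn7 : agreeJ l l 98280 17 wn [] 7 = true := by decide +kernel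
theorem tn8 : agreeJ l l 98280 17 wn [] 8 = true := by decide +kernel
theorem tn9 : agreeJ l l 98280 17 wn [] 9 = true := by decide +kernel
theorem tn10 : agreeJ l l 98280 17 wn [] 10 = true := by decide +kernel
theorem tn11 : agreeJ l l 98280 17 wn [] 11 = true := by decide +kernel
theorem tn12 : agreeJ l l 98280 17 wn [] 12 = true := by decide +kernel
theorem tn13 : agreeJ l l 98280 17 wn [] 13 = true := by decide +kernel
theorem tn14 : agreeJ l l 98280 17 wn [] 14 = true := by decide +kernel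
theorem tn15 : agreeJ l l 98280 17 wn [] 15 = true := by decide +kernel
theorem tn16 : agreeJ l l 98280 17 wn [] 16 = true := by decide +kernel
theorem wn_fix : ∀ i < 98280, wprod gc wn • pt i = pt i := fun i hi =>
  (R.agree_act (m := 17) (by norm_num) (agree_of_forall (by
    intro j hj
    interval_cases j
    · exact tn0
    · exact tn1
    · exact tn2
    · exact tn3
    · exact tn4
    · exact tn5
    · exact tn6
    · exact tn7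
    · exact tn8
    · exact tn9
    · exact tn10
    · exact tn11
    · exact tn12
    · exact tn13
    · exact tn14
    · exact tn15
    · exact tn16)) i hi).trans (one_smul _ _)
theorem wn_eq : wprod gc wn = neg1 :=
  (mem_neg (hB0 _ fun b hb => wn_fix b ((show ∀ b ∈ bs, b < 98280 by decide) b hb))).resolve_left fun e =>
    hB.rep.not_maps hB.fam.inj (w := wn) (a := 0) (b := 0) (by norm_num) (by norm_num) (by decide +kernel)
      (by rw [e, one_smul])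

abbrev G0 : Type := PG 98280 l
noncomputable abbrev g0 : Nat → G0 := pgen 98280 l

theorem img : Md (finPt 98280) 98280 g0 l 4 4157776806543360000 bs ∧
    ∃ ψ : Co0 →* G0, Function.Surjective ψ ∧ ψ.ker = Subgroup.zpowers neg1 ∧ ∀ k, ψ (gc k) = g0 k :=
  R.image' inj gen (fun z hz i hi => by
    rcases mem_neg hz with rfl | rfl
    · exact one_smul _ _
    · exact wn_eq ▸ wn_fix i hi) (by rw [card0, card_neg]) (by decide) hB0

theorem M0 : Md (finPt 98280) 98280 g0 l 4 4157776806543360000 bs := img.1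

theorem nc (K : Subgroup G0) (hK : K.Normal) (hx : wprod g0 [2,6,1,1,2,6,1,1] ∈ K) : K = ⊤ := by
  have ht : wprod g0 [0,4,0,4,0,4] ∈ K := M0.conj_mem hK hx [[],[2],[],[2],[],[2],[],[2],[],[2],[],[2],[],[2]] [2,1,1,6,5,2,0,0,0,0,2] _ (by decide +kernel)
  have h0 : wprod g0 [0] ∈ K := M0.conj_mem hK ht [[4,0,0,0,2],[4,4,1,5],[4,1,5,0,4,0,2]] [] _ (by decide +kernel)
  have h1 : wprod g0 [2] ∈ K := M0.conj_mem hK ht [[5,1,5,1,2],[1,1,1,4,0],[2,1,4,1,5,2,0,5,5]] [] _ (by decide +kernel)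
  have h2 : wprod g0 [4] ∈ K := M0.conj_mem hK ht [[0,4,0,5,0],[1,5,1,4,0],[0,4,1,5]] [] _ (by decide +kernel)
  have h3 : wprod g0 [6] ∈ K := M0.conj_mem hK ht [[5,5,1,2,0]] [1,2,0,6,1,2,0,6,1,1,1,1] _ (by decide +kernel)
  have e : genW g0 [[0],[2],[4],[6]] = ⊤ := M0.gen
  rw [eq_top_iff, ← e]
  exact genW_le.2 (List.forall_mem_cons.2 ⟨h0, List.forall_mem_cons.2 ⟨h1, List.forall_mem_cons.2 ⟨h2, List.forall_mem_cons.2 ⟨h3, List.forall_mem_nil _⟩⟩⟩⟩)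

theorem simple : IsSimpleGroup G0 :=
  M0.simple' ⟨5728, [0,3,0,2,0,3,1,0,2,3,0,1,2,0,3,2,0,1,3,0,2,0,1,3,0], 98280⟩ 17 Lee.W2 [⟨65891, [0], [0,0,0,0,1,0,0,0,0,1,0,0,0,0,1,0,0,0,0,1,0,0,0,0,1,0,0,0,0,1,0,0,0,0,1,0,1], [0,0,1,0,1,0,0,2,1,0,1,0,1,0,1,0,1,0,1,0,1,2,0,1,0,1,0,1,0,1,0,2,0,1,0,1,2,1,0,2]⟩,
  ⟨95465, [0,6,4,0], [0,0,0,0,1,0,0,0,0,1,0,0,0,0,1,0,0,0,0,1,0,0,0,0,1,0,0,0,0,1,0,0,0,0,1,0,0,0,0,1,0,0,0,0,1], [0,1,1,1,1,0,1,1,1,1,2,1,1,1,1,0,1,1,1,1,2,1,1,1,1,0,1,1,1,1,2,1,1,1,1,0,1,1,1,1,2]⟩,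
  ⟨47832, [6], [0,0,0,0,1,0,0,0,0,1,0,0,0,0,1,0,0,0,0,1,0,0,0,0,1,0,0,0,0,1,0,0,0,0,1,0,0,0,0,1,0,0,0,0,1], [0,1,0,1,0,1,0,1,0,1,0,1,1,2,1,0,1,1,0,1,0,1,1,0,1,0,1,0,1,1,0,2,1,1,0,1,1,0,1,1,0,1,2]⟩] 42305421312000 (by decide +kernel) (by decide +kernel) _ 13 (by decide +kernel) nc

theorem center_eq : Subgroup.center Co0 = Subgroup.zpowers neg1 := by
  obtain ⟨ψ, h1, h2, _⟩ := img.2
  have := simple
  rw [← h2]
  exact center_eq_ker (M0.noncomm [0] [2] 0 (by decide +kernel)) h1 (h2 ▸ Subgroup.zpowers_le.2 neg1_cen)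

theorem iso : ∃ e : Spor.Co1 ≃* G0, ∀ k, e (QuotientGroup.mk (gc k)) = g0 k := by
  obtain ⟨ψ, h1, h2, h3⟩ := img.2
  exact ⟨(QuotientGroup.quotientMulEquivOfEq (center_eq.trans h2.symm)).trans
    (QuotientGroup.quotientKerEquivOfSurjective ψ h1), h3⟩

end CfsgH7.Co1
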