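import Cfsg.Agent.H7.Lee.McLU
import Cfsg.Agent.H7.Li.U62

/-! The vector stabiliser in Co2. -/

set_option autoImplicit false
set_option maxRecDepth 100000

namespace CfsgH7.Co2.U6

open Cfsg CfsgH7.Lee CfsgH7.Co2 MulAction

def V : List (List Nat) := [[4,3,3,1,4,3,3,1,4,6,4,8,6,8,3,6,8,4,6,1,2,8,3,4,3,3,1,4,6,4,0,2,2,4,0,2,2,6,3,3,1,4,6,3,3,1,4,6,4,0,2,2,4,2,8,3,0,6,4,8,6,2,8,6,8,0,2,2,4,0,2,2,4,8,6,8,3,6,8,4,6,1,2,8,3,4,6,3,3,1],[4,6,4,0,2,2,6,3,3,1,8,6,8,3,6,8,4,6,1,2,8,3,0,2,2,4,2,8,3,0,6,4,8,6,2,8,6,8,0,2,2,6,3,3,1,2,8,3,0,6,4,8,6,2,8,6,8,0,2,2,4,8,6,8,3,6,8,4,6,1,2,8,3],[2,8,3,0,6,4,8,6,2,8,6,8,0,2,2,4,2,8,3,0,6,4,8,6,2,8,6,8,4,6,4,0,2,2,6,4,8,6,8,3,6,8,4,6,1,2,8,3,0,2,2,6,4,0,2,2,6,4,2,8,3,0,6,4,8,6,2,8,6,8,0,2,2,4,2,8,3,0,6,4,8,6,2,8,6,8,4,6,3,3,1,4,6,4],[4,3,3,1,4,3,3,1,4,6,3,3,1,4,6,4,8,6,8,3,6,8,4,6,1,2,8,3,0,2,2,6,4,0,2,2,6,4,0,2,2,4,0,2,2,6,3,3,1,4,6,3,3,1,4,3,3,1,4,6,3,3,1,4,6,4,2,8,3,0,6,4,8,6,2,8,6,8,0,2,2,6,3,3,1,4,6,3,3,1]]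
theorem Vs_0 : lall (fun w => fixesP lv w bsv) ((U62.Rf.take 6).map (substW V)) = true := by decide +kernel
theorem Vs_1 : lall (fun w => fixesP lv w bsv) (((U62.Rf.drop 6).take 3).map (substW V)) = true := by decide +kernel
theorem Vs_2 : lall (fun w => fixesP lv w bsv) ((((U62.Rf.drop 6).drop 3).take 2).map (substW V)) = true := by decide +kernel
theorem Vs_3 : lall (fun w => fixesP lv w bsv) (((((U62.Rf.drop 6).drop 3).drop 2).take 2).map (substW V)) = true := by decide +kernel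
theorem Vs_4 : lall (fun w => fixesP lv w bsv) ((((((U62.Rf.drop 6).drop 3).drop 2).drop 2).take 2).map (substW V)) = true := by decide +kernel
theorem Vs_5 : lall (fun w => fixesP lv w bsv) (((((((U62.Rf.drop 6).drop 3).drop 2).drop 2).drop 2).take 2).map (substW V)) = true := by decide +kernel
theorem Vs_6 : lall (fun w => fixesP lv w bsv) ((((((((U62.Rf.drop 6).drop 3).drop 2).drop 2).drop 2).drop 2).take 1).map (substW V)) = true := by decide +kernel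
theorem Vs_7 : lall (fun w => fixesP lv w bsv) (((((((((U62.Rf.drop 6).drop 3).drop 2).drop 2).drop 2).drop 2).drop 1).take 1).map (substW V)) = true := by decide +kernel
theorem Vs_8 : lall (fun w => fixesP lv w bsv) ((((((((((U62.Rf.drop 6).drop 3).drop 2).drop 2).drop 2).drop 2).drop 1).drop 1).take 1).map (substW V)) = true := by decide +kernel
theorem Vs_9 : lall (fun w => fixesP lv w bsv) (((((((((((U62.Rf.drop 6).drop 3).drop 2).drop 2).drop 2).drop 2).drop 1).drop 1).drop 1).take 2).map (substW V)) = true := by decide +kernel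
theorem Vs_10 : lall (fun w => fixesP lv w bsv) ((((((((((((U62.Rf.drop 6).drop 3).drop 2).drop 2).drop 2).drop 2).drop 1).drop 1).drop 1).drop 2).take 4).map (substW V)) = true := by decide +kernel
theorem Vs_11 : lall (fun w => fixesP lv w bsv) (((((((((((((U62.Rf.drop 6).drop 3).drop 2).drop 2).drop 2).drop 2).drop 1).drop 1).drop 1).drop 2).drop 4).take 2).map (substW V)) = true := by decide +kernel
theorem Vs_12 : lall (fun w => fixesP lv w bsv) ((((((((((((((U62.Rf.drop 6).drop 3).drop 2).drop 2).drop 2).drop 2).drop 1).drop 1).drop 1).drop 2).drop 4).drop 2).take 2).map (substW V)) = true := by decide +kernel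
theorem Vs_13 : lall (fun w => fixesP lv w bsv) (((((((((((((((U62.Rf.drop 6).drop 3).drop 2).drop 2).drop 2).drop 2).drop 1).drop 1).drop 1).drop 2).drop 4).drop 2).drop 2).take 3).map (substW V)) = true := by decide +kernel
theorem Vs_14 : lall (fun w => fixesP lv w bsv) ((((((((((((((((U62.Rf.drop 6).drop 3).drop 2).drop 2).drop 2).drop 2).drop 1).drop 1).drop 1).drop 2).drop 4).drop 2).drop 2).drop 3).take 2).map (substW V)) = true := by decide +kernel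
theorem Vs_15 : lall (fun w => fixesP lv w bsv) ((((((((((((((((U62.Rf.drop 6).drop 3).drop 2).drop 2).drop 2).drop 2).drop 1).drop 1).drop 1).drop 2).drop 4).drop 2).drop 2).drop 3).drop 2).map (substW V)) = true := by decide +kernel
theorem Vs : lall (fun w => fixesP lv w bsv) (U62.Rf.map (substW V)) = true :=
  (lall_split 6 Vs_0 (lall_split 3 Vs_1 (lall_split 2 Vs_2 (lall_split 2 Vs_3 (lall_split 2 Vs_4 (lall_split 2 Vs_5 (lall_split 1 Vs_6 (lall_split 1 Vs_7 (lall_split 1 Vs_8 (lall_split 2 Vs_9 (lall_split 4 Vs_10 (lall_split 2 Vs_11 (lall_split 2 Vs_12 (lall_split 3 Vs_13 (lall_split 2 Vs_14 Vs_15)))))))))))))))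
theorem V_m : Mdl (genW g V) 4 U62.Rf 9196830720 :=
  Mv.genMdl (V := V) U62.pr U62.mdl0 U62.simple Vs 1 (by decide +kernel)
theorem hK : genW g V = MulAction.stabilizer Cfsg.Spor.Co2 (pv 0) := Mv.stab ⟨0, [0,1,2,4,0,3,1,0,4,2,3,1,0,4,3,0,1,4,0], 4600⟩ 13 9196830720 (by decide +kernel) V_m.2.1.ge

theorem st : Mdl (stabilizer Co0 uU ⊓ stabilizer Co0 (pv 0) : Subgroup Co0) 4 U62.Rf 9196830720 :=
  (offS o2 (pv 0)).elim fun e => (hK ▸ V_m : Mdl (stabilizer Spor.Co2 (pv 0)) 4 U62.Rf 9196830720).congr e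

theorem main {v w : Λ} (hv : sqNorm (v : GolayPt → ℤ) = 32) (hw : sqNorm (w : GolayPt → ℤ) = 32)
    (hd : dotInt (v : GolayPt → ℤ) (w : GolayPt → ℤ) = -16) :
    Mdl (stabilizer Co0 v ⊓ stabilizer Co0 w : Subgroup Co0) 4 U62.Rf 9196830720 := by
  have h0 := hL.fam.mem 0 (by norm_num)
  obtain ⟨c, rfl, rfl⟩ := pair32 nU h0.1 hv hw (h0.2.trans hd.symm)
  exact st.congr ((Cj.stab c uU).inf (Cj.stab c (pv 0))).equiv

end CfsgH7.Co2.U6
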