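import Cfsg.Agent.H7.Lee.Basic

/-! Counting lattice vectors by a generating function; indices; short vectors in the classes
modulo twice a lattice. -/

set_option autoImplicit false
set_option maxRecDepth 100000

namespace CfsgH7.Lee

open Cfsg CfsgH7.Gol MulAction
open scoped Pointwise

attribute [-simp] Fintype.sum_option

theorem digit_sum {α : Type*} (X : Finset α) (E : α → Nat) {B : Nat} (hB : X.card < B) (p : Nat) :
    (∑ x ∈ X, B ^ E x) / B ^ p % B = (X.filter fun x => E x = p).card := by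
  have h0 : 0 < B := by omega
  have h1 : ∑ x ∈ X, B ^ E x = ∑ x ∈ X.filter (fun x => E x < p), B ^ E x +
      B ^ p * ((X.filter fun x => E x = p).card + B * ∑ x ∈ X.filter (fun x => p < E x), B ^ (E x - p - 1)) := by
    rw [Finset.card_filter, Finset.sum_filter, Finset.sum_filter, Finset.mul_sum, ← Finset.sum_add_distrib,
      Finset.mul_sum, ← Finset.sum_add_distrib]
    refine Finset.sum_congr rfl fun x _ => ?_
    rcases lt_trichotomy (E x) p with h | h | h
    · simp [h, h.ne, h.not_gt]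
    · simp [h]
    · simp only [h, h.ne', h.not_gt, if_true, if_false, zero_add, ← pow_succ', ← pow_add]
      congr 1; omega
  have h2 : ∑ x ∈ X.filter (fun x => E x < p), B ^ E x < B ^ p := by
    cases p with
    | zero => simp
    | succ p =>
      calc _ ≤ (X.filter (fun x => E x < p + 1)).card • B ^ p :=
            Finset.sum_le_card_nsmul _ _ _ fun x hx =>
              Nat.pow_le_pow_right h0 (by have := (Finset.mem_filter.1 hx).2; omega)
        _ < B * B ^ p := by
            rw [smul_eq_mul]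
            exact Nat.mul_lt_mul_of_pos_right ((Finset.card_filter_le _ _).trans_lt hB) (by positivity)
        _ = _ := by ring
  rw [h1, Nat.add_mul_div_left _ _ (by positivity), Nat.div_eq_of_lt h2, zero_add, Nat.add_mul_mod_self_left,
    Nat.mod_eq_of_lt ((Finset.card_filter_le _ _).trans_lt hB)]

/-- The exponent of a coordinate value. -/
def ex (t : ℤ) : Nat := t.natAbs ^ 2 * 512 + (t + 8).toNat

/-- The generating number of one coordinate. -/
def gen1 (T : List ℤ) (r : ℤ) : Nat := ((T.filter fun t => t % 4 = r).map fun t => 2 ^ (64 * ex t)).sum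

/-- The count read off the generating number. -/
noncomputable def cnt2 (T : List ℤ) (K m w : Nat) : Nat :=
  force (Nat.land (Nat.shiftRight (Nat.mul (Nat.pow (gen1 T (m + 2)) w) (Nat.pow (gen1 T m) (24 - w)))
    (64 * (K * 512))) (ones (64 * 512))) fun Q =>
    (((List.range 512).filter fun j => j % 8 = 4 * m).map fun j =>
      Nat.land (Nat.shiftRight Q (64 * j)) (ones 64)).sum

theorem cnt2_eq (T : List ℤ) (K m w : Nat) : cnt2 T K m w = ∑ j ∈ (Finset.range 512).filter fun j => j % 8 = 4 * m,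
    (gen1 T (m + 2) ^ w * gen1 T m ^ (24 - w)) / (2 ^ 64) ^ (K * 512 + j) % 2 ^ 64 := by
  have e : ∀ a n, Nat.land a (ones n) = a % 2 ^ n := fun a n => by
    show a &&& (1 <<< n - 1) = _
    rw [Nat.one_shiftLeft, Nat.and_two_pow_sub_one_eq_mod]
  rw [cnt2, force_eq, ← List.sum_toFinset _ (List.nodup_range.filter _), List.toFinset_filter, List.toFinset_range]
  refine Finset.sum_congr (by simp) fun j hj => ?_
  have hj : j < 512 := Finset.mem_range.1 (Finset.mem_filter.1 hj).1
  rw [e, e]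
  show ((gen1 T (m + 2) ^ w * gen1 T m ^ (24 - w)) >>> (64 * (K * 512)) % 2 ^ (64 * 512)) >>> (64 * j) % _ = _
  generalize gen1 T (m + 2) ^ w * gen1 T m ^ (24 - w) = P
  generalize hN : 64 * 512 = N
  apply Nat.eq_of_testBit_eq
  intro i
  rw [← pow_mul, ← Nat.shiftRight_eq_div_pow]
  simp only [Nat.testBit_mod_two_pow, Nat.testBit_shiftRight]
  by_cases hi : i < 64
  · simp only [hi, decide_true, Bool.true_and, show 64 * j + i < N by omega]
    congr 1; ring
  · simp [hi]

theorem sum_ex (x : V) : ((∑ i, ex (x i) : Nat) : ℤ) = sqNorm x * 512 + (∑ i, (x i + 8).toNat : Nat) := by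
  rw [sqNorm, Finset.sum_mul, Nat.cast_sum, Nat.cast_sum, ← Finset.sum_add_distrib]
  refine Finset.sum_congr rfl fun i _ => ?_
  rw [ex, Nat.cast_add, Nat.cast_mul, Nat.cast_pow, Int.natAbs_sq]
  rfl

theorem ar1 {a k j K m : Nat} {b q : ℤ} (a1 : k < 512) (a2 : (k : ℤ) = b + 192) (a3 : (a : ℤ) = q * 512 + k)
    (hj : j < 512 ∧ j % 8 = 4 * m) : (b % 8 = 4 * (m : ℤ) ∧ q = K) ∧ a - K * 512 = j ↔ a = K * 512 + j := by
  omega

theorem ar2 {a k K m : Nat} {b q : ℤ} (a1 : k < 512) (a2 : (k : ℤ) = b + 192) (a3 : (a : ℤ) = q * 512 + k)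
    (h : b % 8 = 4 * (m : ℤ) ∧ q = K) : a - K * 512 < 512 ∧ (a - K * 512) % 8 = 4 * m := by
  omega

theorem count1 {T : List ℤ} (hT : T.Nodup) (hb : ∀ t ∈ T, -8 ≤ t ∧ t ≤ 8) (K m : Nat) (c : Finset GolayPt) :
    ((Fintype.piFinset fun i => (T.filter fun t => t % 4 = if i ∈ c then (m : ℤ) + 2 else m).toFinset).filter
      fun x : V => (∑ i, x i) % 8 = 4 * (m : ℤ) ∧ sqNorm x = K).card = cnt2 T K m c.card := by
  set X := Fintype.piFinset fun i => (T.filter fun t => t % 4 = if i ∈ c then (m : ℤ) + 2 else m).toFinset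
    with hX
  have hm : ∀ x ∈ X, ∀ i, -8 ≤ x i ∧ x i ≤ 8 := fun x hx i =>
    hb _ (List.mem_filter.1 (List.mem_toFinset.1 (Fintype.mem_piFinset.1 hx i))).1
  have hc : X.card < 2 ^ 64 := by
    rw [hX, Fintype.card_piFinset]
    calc _ ≤ 5 ^ (Finset.univ : Finset GolayPt).card := Finset.prod_le_pow_card _ _ _ fun i _ => ?_
      _ < _ := by rw [Finset.card_univ, cardP]; norm_num
    generalize (if i ∈ c then (m : ℤ) + 2 else m) = r
    calc _ ≤ (Finset.Icc (-2 : ℤ) 2).card := Finset.card_le_card_of_injOn (· / 4) (fun t ht => ?_)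
            fun t ht u hu e => ?_
      _ = 5 := rfl
    · have := hb t (List.mem_filter.1 (List.mem_toFinset.1 ht)).1
      simp only [Finset.coe_Icc, Set.mem_Icc]; omega
    · have a := (List.mem_filter.1 (List.mem_toFinset.1 ht)).2
      have b := (List.mem_filter.1 (List.mem_toFinset.1 hu)).2
      simp only [decide_eq_true_eq] at a b e
      omega
  have hp : ∑ x ∈ X, (2 ^ 64) ^ (∑ i, ex (x i)) = gen1 T (m + 2) ^ c.card * gen1 T m ^ (24 - c.card) := by
    simp only [← Finset.prod_pow_eq_pow_sum]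
    rw [hX, ← Finset.prod_univ_sum (fun i => (T.filter fun t => t % 4 = if i ∈ c then (m : ℤ) + 2 else m).toFinset)
      fun _ t => (2 ^ 64) ^ ex t]
    have : ∀ i, ∑ t ∈ (T.filter fun t => t % 4 = if i ∈ c then (m : ℤ) + 2 else m).toFinset, (2 ^ 64) ^ ex t =
        if i ∈ c then gen1 T (m + 2) else gen1 T m := fun i => by
      rw [List.sum_toFinset _ (hT.filter _)]
      split_ifs <;> simp [gen1, pow_mul]
    simp only [this, Finset.prod_ite, Finset.prod_const, Finset.filter_mem_eq_inter, Finset.univ_inter]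
    rw [Finset.filter_not, Finset.filter_mem_eq_inter, Finset.univ_inter, Finset.card_univ_diff, cardP]
  have he : ∀ x ∈ X, ∃ j : Nat, j < 512 ∧ (j : ℤ) = ∑ i, x i + 192 ∧
      ((∑ i, ex (x i) : Nat) : ℤ) = sqNorm x * 512 + j := by
    intro x hx
    have h1 : ((∑ i, (x i + 8).toNat : Nat) : ℤ) = ∑ i, x i + 192 := by
      push_cast
      rw [Finset.sum_congr rfl fun i _ => Int.toNat_of_nonneg (by have := hm x hx i; omega),
        Finset.sum_add_distrib]
      simp [cardP]
    have h2 : ∑ i, (x i + 8).toNat ≤ (Finset.univ : Finset GolayPt).card • 16 :=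
      Finset.sum_le_card_nsmul _ _ _ fun i _ => by have := hm x hx i; omega
    rw [Finset.card_univ, cardP] at h2
    exact ⟨_, h2.trans_lt (by norm_num), h1, sum_ex x⟩
  rw [cnt2_eq, ← hp]
  simp only [digit_sum X _ hc]
  clear hp hc
  rw [Finset.card_eq_sum_card_fiberwise (f := fun x => (∑ i, ex (x i)) - K * 512)
    (t := (Finset.range 512).filter fun j => j % 8 = 4 * m)]
  · refine Finset.sum_congr rfl fun j hj => ?_
    rw [Finset.filter_filter]
    refine congrArg Finset.card (Finset.filter_congr fun x hx => ?_)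
    obtain ⟨k, a1, a2, a3⟩ := he x hx
    simp only [Finset.mem_filter, Finset.mem_range] at hj
    exact ar1 a1 a2 a3 hj
  · intro x hx
    simp only [Finset.coe_filter, Set.mem_setOf_eq, Finset.mem_range] at hx ⊢
    obtain ⟨k, a1, a2, a3⟩ := he x hx.1
    exact ar2 a1 a2 a3 hx.2

/-- The sum over the weights of the code. -/
noncomputable def cntW (f : Nat → Nat) : Nat := f 0 + 759 * f 8 + 2576 * f 12 + 759 * f 16 + f 24

theorem sum_U (f : Nat → Nat) : ∑ c ∈ FC.finite.toFinset, f c.card = cntW f := by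
  have h : ∀ k, (FC.finite.toFinset.filter fun c => c.card = k).card =
      cnt 12 4096 (cntB CP 4096 (ones 24) k) := fun k => by
    rw [← Set.ncard_coe_finset]
    exact FC.ncard (rbW k) 12 (band_iff.2 ⟨rfl, Nat.beq_refl _⟩) fun y => by simp
  rw [← Finset.sum_fiberwise_of_maps_to (g := Finset.card) (t := {0, 8, 12, 16, 24})
    fun c hc => by simpa using wt (by simpa using hc)]
  have e : ∀ k, ∑ c ∈ FC.finite.toFinset with c.card = k, f c.card =
      cnt 12 4096 (cntB CP 4096 (ones 24) k) * f k := fun k => by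
    rw [Finset.sum_congr rfl fun c hc => by rw [(Finset.mem_filter.1 hc).2], Finset.sum_const, h, smul_eq_mul]
  have e2 : ([0, 8, 12, 16, 24].map fun k => cnt 12 4096 (cntB CP 4096 (ones 24) k)) = [1, 759, 2576, 759, 1] := by
    decide +kernel
  simp only [List.map_cons, List.map_nil, List.cons.injEq] at e2
  simp [e, e2, cntW, add_assoc]

theorem count {T : List ℤ} (hT : T.Nodup) (hb : ∀ t ∈ T, -8 ≤ t ∧ t ≤ 8) (K : Nat) :
    {x : V | x ∈ Λ ∧ sqNorm x = K ∧ ∀ i, x i ∈ T}.ncard = cntW (cnt2 T K 0) + cntW (cnt2 T K 1) := by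
  classical
  have e : {x : V | x ∈ Λ ∧ sqNorm x = K ∧ ∀ i, x i ∈ T} =
      ((Fintype.piFinset fun _ => T.toFinset).filter fun x : V => x ∈ Λ ∧ sqNorm x = K : Finset V) := by
    ext x; simp; tauto
  rw [e, Set.ncard_coe_finset, Finset.card_eq_sum_card_fiberwise
    (f := fun x : V => ((x none % 2).toNat, cs x)) (t := Finset.range 2 ×ˢ FC.finite.toFinset),
    Finset.sum_product, Finset.sum_range_succ, Finset.sum_range_one, ← sum_U, ← sum_U]
  · have key : ∀ m < 2, ∀ c ∈ FC.finite.toFinset, (((Fintype.piFinset fun _ => T.toFinset).filter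
        fun x : V => x ∈ Λ ∧ sqNorm x = K).filter fun x => ((x none % 2).toNat, cs x) = (m, c)).card =
        cnt2 T K m c.card := by
      intro m hm c hc
      rw [← count1 hT hb]
      refine congrArg Finset.card (Finset.ext fun x => ?_)
      simp only [Finset.mem_filter, Fintype.mem_piFinset, List.mem_toFinset, List.mem_filter, mem_iff,
        Prod.mk.injEq, decide_eq_true_eq]
      constructor
      · rintro ⟨⟨h1, ⟨h2, h3, _⟩, h4⟩, h5, rfl⟩
        refine ⟨fun i => ⟨h1 i, ?_⟩, by omega, h4⟩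
        have := h2 i
        simp only [mem_cs]
        split_ifs <;> omega
      · rintro ⟨h1, h2, h3⟩
        have h4 : ∀ i, x i % 2 = m := fun i => by have := (h1 i).2; split_ifs at this <;> omega
        have h5 : cs x = c := by
          ext i; have := (h1 i).2; rw [mem_cs]
          split_ifs at this with a <;> simp only [a, iff_true, iff_false] <;> omega
        have := h4 none
        exact ⟨⟨fun i => (h1 i).1, ⟨fun i => by rw [h4, h4], by omega, by simpa [h5] using hc⟩, h3⟩,
          by omega, h5⟩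
    rw [Finset.sum_congr rfl (key 0 (by omega)), Finset.sum_congr rfl (key 1 (by omega))]
  · intro x hx
    simp only [Finset.coe_filter, Set.mem_setOf_eq, mem_iff] at hx
    simp only [Finset.coe_product, Set.mem_prod, Finset.coe_range, Set.mem_Iio, Set.Finite.coe_toFinset]
    exact ⟨by omega, hx.2.1.2.2⟩

/-- All small values. -/
def T8 : List ℤ := [-8, -7, -6, -5, -4, -3, -2, -1, 0, 1, 2, 3, 4, 5, 6, 7, 8]

theorem countK (K : Nat) (hK : K ≤ 64) :
    {x : V | x ∈ Λ ∧ sqNorm x = K}.ncard = cntW (cnt2 T8 K 0) + cntW (cnt2 T8 K 1) := by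
  rw [← count (by decide) (by decide)]
  congr 1
  ext x
  refine and_congr_right fun _ => ⟨fun h => ⟨h, fun i => ?_⟩, fun h => h.1⟩
  have := sq_le x i
  have : x i ≤ 8 ∧ -8 ≤ x i := by constructor <;> nlinarith [(Nat.cast_le (α := ℤ)).2 hK]
  simp only [T8, List.mem_cons, List.not_mem_nil]
  omega

theorem n32 : {x : V | x ∈ Λ ∧ sqNorm x = 32}.ncard = 196560 :=
  (countK 32 (by norm_num)).trans (by decide +kernel)

theorem n48 : {x : V | x ∈ Λ ∧ sqNorm x = 48}.ncard = 16773120 :=
  (countK 48 (by norm_num)).trans (by decide +kernel)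

theorem n64 : {x : V | x ∈ Λ ∧ sqNorm x = 64}.ncard = 398034000 :=
  (countK 64 (by norm_num)).trans (by decide +kernel)

theorem ncard_L (φ : V → Prop) : {x : Λ | φ x}.ncard = {x : V | x ∈ Λ ∧ φ x}.ncard := by
  rw [← Set.ncard_image_of_injective _ Subtype.val_injective]
  congr 1; ext x; simp [and_comm]

/-! ### Indices -/

theorem index_of_inv {G X : Type*} [AddGroup G] {H : AddSubgroup G} (f : G → X) (hs : Function.Surjective f)
    (h : ∀ x y, -x + y ∈ H ↔ f x = f y) : H.index = Nat.card X := by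
  refine Nat.card_congr (Equiv.ofBijective (Quotient.lift f fun x y e =>
    (h x y).1 (QuotientAddGroup.leftRel_apply.1 e)) ⟨?_, fun x => ?_⟩)
  · rintro ⟨x⟩ ⟨y⟩ e
    exact Quotient.sound (QuotientAddGroup.leftRel_apply.2 ((h x y).2 e))
  · obtain ⟨y, rfl⟩ := hs x
    exact ⟨Quotient.mk _ y, rfl⟩

/-- Four times the vectors of even sum. -/
def L0 : AddSubgroup V where
  carrier := {x | (∀ i, x i % 4 = 0) ∧ (∑ i, x i) % 8 = 0}
  zero_mem' := by simp
  add_mem' := by
    rintro x y ⟨h1, h2⟩ ⟨h3, h4⟩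
    exact ⟨fun i => by have := h1 i; have := h3 i; rw [Pi.add_apply]; omega,
      by simp only [Pi.add_apply, Finset.sum_add_distrib]; omega⟩
  neg_mem' := by
    rintro x ⟨h1, h2⟩
    exact ⟨fun i => by have := h1 i; rw [Pi.neg_apply]; omega,
      by simp only [Pi.neg_apply, Finset.sum_neg_distrib]; omega⟩

theorem mem_L0 {x y : V} : -x + y ∈ L0 ↔ (∀ i, x i % 4 = y i % 4) ∧ (∑ i, x i) % 8 = (∑ i, y i) % 8 := by
  show (∀ i, (-x + y) i % 4 = 0) ∧ (∑ i, (-x + y) i) % 8 = 0 ↔ _
  simp only [Pi.add_apply, Pi.neg_apply, Finset.sum_add_distrib, Finset.sum_neg_distrib]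
  exact and_congr (forall_congr' fun i => by omega) (by omega)

theorem L0_le : L0 ≤ Λ := fun x hx => mem_Λ.2 ⟨0, ∅, U_empty, fun i => by simpa [χ] using hx.1 i, by simpa using hx.2⟩

theorem sum_mod4 {x y : V} (h : ∀ i, x i % 4 = y i % 4) : (∑ i, x i) % 4 = (∑ i, y i) % 4 := by
  rw [Finset.sum_int_mod, Finset.sum_congr rfl fun i _ => h i, ← Finset.sum_int_mod]

theorem L0_index : L0.index = 2 ^ 49 := by
  rw [index_of_inv (X := (GolayPt → ZMod 4) × ZMod 2)
    (fun x => (fun i => (x i : ZMod 4), (((∑ i, x i) / 4 : ℤ) : ZMod 2)))]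
  · simp [cardP]
  · rintro ⟨a, t⟩
    refine ⟨fun i => (a i).val + 4 * (t.val - (∑ i, ((a i).val : ℤ)) / 4) * e none i, ?_⟩
    simp only [Finset.sum_add_distrib, ← Finset.mul_sum, sum_e, Prod.mk.injEq]
    refine ⟨by funext i; push_cast; simp [show (4 : ZMod 4) = 0 from rfl], ?_⟩
    rw [mul_one, Int.add_mul_ediv_left _ _ (by norm_num)]
    simp
  · intro x y
    simp only [mem_L0, Prod.mk.injEq, funext_iff, ZMod.intCast_eq_intCast_iff']
    refine and_congr_right fun h => ?_
    have := sum_mod4 h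
    push_cast
    omega

theorem L0_rel : L0.relIndex Λ = 2 ^ 13 := by
  rw [AddSubgroup.relIndex, index_of_inv (X := ZMod 2 × U)
    (fun x : Λ => (((x : V) none : ZMod 2), ⟨cs x, (mem_iff.1 x.2).2.2⟩))]
  · rw [Nat.card_prod, Nat.card_coe_set_eq, FC.ncard_univ]; simp
  · rintro ⟨t, c⟩
    refine ⟨⟨_, Λ.add_mem (Λ.zsmul_mem o3_mem t.val) (two_mem c.2)⟩, Prod.ext ?_ (Subtype.ext ?_)⟩
    · simp only [Pi.add_apply, Pi.smul_apply, smul_eq_mul, o3]
      push_cast
      simp [show (2 : ZMod 2) = 0 from rfl, show (3 : ZMod 2) = 1 from rfl]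
    · ext i
      have : (t.val : ℤ) = 0 ∨ (t.val : ℤ) = 1 := by have := t.val_lt; omega
      simp only [mem_cs, Pi.add_apply, Pi.smul_apply, smul_eq_mul, o3, χ]
      split_ifs with a b b <;> simp only [b, iff_true, iff_false] <;> omega
  · intro x y
    rw [AddSubgroup.mem_addSubgroupOf, AddSubgroup.coe_add, AddSubgroup.coe_neg, mem_L0]
    simp only [Prod.mk.injEq, Subtype.mk.injEq, ZMod.intCast_eq_intCast_iff', Finset.ext_iff, mem_cs]
    obtain ⟨a1, a2, _⟩ := mem_iff.1 x.2
    obtain ⟨b1, b2, _⟩ := mem_iff.1 y.2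
    push_cast
    constructor
    · rintro ⟨h, _⟩
      exact ⟨by have := h none; omega, fun i => by rw [h i]⟩
    · rintro ⟨h1, h2⟩
      exact ⟨fun i => by have := a1 i; have := b1 i; have := h2 i; omega, by omega⟩

theorem Λ_index : Λ.index = 2 ^ 36 := by
  have := AddSubgroup.relIndex_mul_index L0_le
  rw [L0_rel, L0_index] at this
  omega

/-- Twice a group. -/
def two (M : Type*) [AddCommGroup M] : AddSubgroup M := (zsmulAddGroupHom (2 : ℤ) : M →+ M).range

theorem mem_two {M : Type*} [AddCommGroup M] {x : M} : x ∈ two M ↔ ∃ y, x = (2 : ℤ) • y :=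
  ⟨fun ⟨y, e⟩ => ⟨y, e.symm⟩, fun ⟨y, e⟩ => ⟨y, e.symm⟩⟩

theorem two_index_pi (ι : Type*) [Fintype ι] : (two (ι → ℤ)).index = 2 ^ Fintype.card ι := by
  classical
  rw [index_of_inv (X := ι → ZMod 2) (fun x i => (x i : ZMod 2))]
  · simp
  · exact fun a => ⟨fun i => (a i).val, by funext i; simp⟩
  · intro x y
    simp only [mem_two, funext_iff, ZMod.intCast_eq_intCast_iff', Pi.add_apply, Pi.neg_apply, Pi.smul_apply,
      smul_eq_mul]
    push_cast
    exact ⟨fun ⟨z, h⟩ i => by have := h i; omega, fun h => ⟨fun i => (-x i + y i) / 2, fun i => by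
      have := h i; beta_reduce; omega⟩⟩

theorem two_index : (two Λ).index = 2 ^ 24 := by
  have hi : Function.Injective (zsmulAddGroupHom (2 : ℤ) : V →+ V) := fun x y h => by
    funext i
    have := congrFun h i
    simp only [zsmulAddGroupHom_apply, Pi.smul_apply, smul_eq_mul] at this
    omega
  have h1 := AddSubgroup.index_map_of_injective Λ hi
  have h2 : Λ.map (zsmulAddGroupHom (2 : ℤ)) ≤ Λ := by rintro _ ⟨x, hx, rfl⟩; exact Λ.zsmul_mem hx 2
  have h3 := AddSubgroup.relIndex_mul_index h2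
  have h4 : (Λ.map (zsmulAddGroupHom (2 : ℤ))).addSubgroupOf Λ = two Λ := by
    ext x
    rw [AddSubgroup.mem_addSubgroupOf, mem_two]
    exact ⟨fun ⟨y, hy, e⟩ => ⟨⟨y, hy⟩, Subtype.ext e.symm⟩, fun ⟨y, e⟩ => ⟨y, y.2, by rw [e]; rfl⟩⟩
  have h5 := two_index_pi GolayPt
  rw [AddSubgroup.relIndex, h4, h1, Λ_index, show (zsmulAddGroupHom (2 : ℤ) : V →+ V).range.index = _ from h5,
    cardP, mul_comm] at h3
  exact Nat.eq_of_mul_eq_mul_left (by positivity) h3

end CfsgH7.Lee
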