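import Cfsg.Agent.H7.Lee.Short

/-! The monomial subgroup. -/

set_option autoImplicit false
set_option maxRecDepth 100000

namespace CfsgH7.Lee

open Cfsg CfsgH7.Gol MulAction
open scoped Pointwise

attribute [-simp] Fintype.sum_option

/-- The standard cross inside the lattice. -/
def SC : Set Λ := {v | (v : V) ∈ stdCross}

theorem SC_finite : SC.Finite := (finite_normL 64).subset fun _ h => (std_mem h).2

/-- The monomial subgroup. -/
noncomputable def NM : Subgroup Co0 := stabilizer Co0 SC

theorem mem_NM {g : Co0} : g ∈ NM ↔ ∀ v : Λ, (v : V) ∈ stdCross → ((g • v : Λ) : V) ∈ stdCross := by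
  rw [NM, mem_stabilizer_set_iff_smul_set_subset SC_finite]
  exact ⟨fun h v hv => h (Set.smul_mem_smul_set hv), by rintro h _ ⟨v, hv, rfl⟩; exact h v hv⟩

theorem NM_of {g : Co0} {i : GolayPt} (h : ((g • f8 i : Λ) : V) ∈ stdCross) : g ∈ NM :=
  mem_NM.2 (cross_of_one h)

theorem mono_NM (σ : M24) (c : U) : mono σ c ∈ NM := NM_of (mono_std σ c none)

theorem NM_mono {g : Co0} (h : g ∈ NM) : ∃ σ c, g = mono σ c := mono_of fun i => mem_NM.1 h _ (f8_std i)

theorem card_NM : Nat.card NM = 4096 * 244823040 := by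
  rw [card_mono (K := ⊤) (φ := fun _ => True) (fun _ => NM_mono) (fun σ c => by simp [mono_NM]),
    Subgroup.card_top, card24]
  simp [FC.ncard_univ]

end CfsgH7.Lee
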