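import Cfsg.Agent.H7.Lee.Mono

/-! A non-monomial automorphism, the matrix representations, and families of minimal vectors. -/

set_option autoImplicit false
set_option maxRecDepth 100000

namespace CfsgH7

section

variable {F : Type*} [CommRing F] {A : Ar} {cf : Nat → F} {n : Nat}
variable {ι : Type*} [Fintype ι] [DecidableEq ι] {ix : ι → Nat} {px : Nat → ι} {d : Nat}

/-- The matrix word carries one family of vectors to another. -/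
noncomputable def Ar.mapK (A : Ar) (n d : Nat) (Ms : List (List (List Nat))) (P Q : List (List Nat))
    (w : List Nat) : Bool :=
  band (band (A.okP n d P) (A.okP n d Q))
    (A.hotsF n d (fun x => x) P fun H => A.mwF n d Ms w H fun H' => A.hotsF n d (fun x => x) Q fun T =>
      A.subsH d H' T)

open Matrix in
theorem Ar.Ok.mapK (K : A.Ok cf) (I : Ix ix px d) {Ms : List (List (List Nat))} (hM : A.mOk d Ms = true)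
    {P Q : List (List Nat)} {w : List Nat} (h : A.mapK n d Ms P Q w = true) :
    ∀ i < n, matW cf ix Ms w *ᵥ vpt cf ix P i = vpt cf ix Q i := by
  obtain ⟨h1, h⟩ := band_iff.1 h
  rw [Ar.hotsF_eq, Ar.mwF_eq, Ar.hotsF_eq] at h
  exact (K.hot_mw I hM w (K.hot_pl I (band_iff.1 h1).1 (σ := fun i => i) (fun _ h => h) fun _ _ => rfl)).eq I
    (K.hot_pl I (band_iff.1 h1).2 (σ := fun i => i) (fun _ h => h) fun _ _ => rfl) h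

end

end CfsgH7

namespace CfsgH7.Lee

open Cfsg CfsgH7.Gol MulAction Matrix
open scoped Pointwise

attribute [-simp] Fintype.sum_option

/-- The mask of the residue set. -/
noncomputable def csm (x : V) : Nat := orN (fun j => if 2 ≤ x (px j) % 4 then sing j else 0) 24

/-- A test for membership. -/
def chk (x : V) : Prop :=
  (∀ i, x i % 2 = x none % 2) ∧ (∑ i, x i) % 8 = 4 * (x none % 2) ∧ isCw (csm x) = true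

noncomputable instance (x : V) : Decidable (chk x) := by unfold chk; infer_instance

theorem chk_mem {x : V} (h : chk x) : x ∈ Λ := by
  refine mem_iff.2 ⟨h.1, h.2.1, ?_⟩
  convert U_of h.2.2 using 1
  ext i
  rw [mem_cs, S, mem_msk, csm, orN_testBit]
  constructor
  · exact fun a => ⟨ix i, I.lt i, by rw [I.px_ix, if_pos a]; simp [sing_testBit]⟩
  · rintro ⟨j, hj, a⟩
    split_ifs at a with b
    · obtain rfl : j = ix i := by simpa [sing_testBit] using a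
      rwa [I.px_ix] at b
    · simp at a

/-- The tetrad through each point. -/
def TET : List Nat := [0x800007, 0x800007, 0x800007, 0x24028, 0x412010, 0x24028, 0x2800c0, 0x2800c0, 0x41900, 0x108600, 0x108600, 0x41900, 0x41900, 0x412010, 0x24028, 0x108600, 0x412010, 0x24028, 0x41900, 0x2800c0, 0x108600, 0x2800c0, 0x412010, 0x800007]

/-- Twice the matrix of the extra automorphism. -/
noncomputable def XM : Matrix GolayPt GolayPt ℤ := Matrix.of fun i j =>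
  if tb (nth TET (ix i)) (ix j) = true then (if (i = j ↔ tb 0x800007 (ix i) = true) then -1 else 1) else 0

/-- The extra automorphism on vectors. -/
noncomputable def xiF (x : V) : V := fun i => (XM *ᵥ x) i / 2

theorem XM_even {x : V} (hx : x ∈ Λ) : (2 : ℤ) • xiF x = XM *ᵥ x := by
  funext i
  have h1 := (mem_iff.1 hx).1
  have h2 : (XM *ᵥ x) i = (x none % 2) * ∑ j, XM i j + 2 * ∑ j, XM i j * (x j / 2) := by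
    rw [Finset.mul_sum, Finset.mul_sum, ← Finset.sum_add_distrib]
    show ∑ j, XM i j * x j = _
    refine Finset.sum_congr rfl fun j _ => ?_
    rw [← h1 j]
    conv_lhs => rw [← Int.emod_add_mul_ediv (x j) 2]
    ring
  have h3 : (∑ j, XM i j) % 2 = 0 := (show ∀ i, (∑ j, XM i j) % 2 = 0 by decide +kernel) i
  obtain ⟨k, hk⟩ := Int.dvd_of_emod_eq_zero h3
  rw [Pi.smul_apply, smul_eq_mul, xiF, h2, hk, ← mul_assoc, mul_comm _ 2, mul_assoc, ← mul_add,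
    Int.mul_ediv_cancel_left _ two_ne_zero]

theorem XM_orth : XMᵀ * XM = (4 : ℤ) • (1 : Matrix GolayPt GolayPt ℤ) := by
  ext i j
  rw [Matrix.mul_apply, Matrix.smul_apply, Matrix.one_apply]
  revert i j
  decide +kernel

theorem two_inj {x y : V} (h : (2 : ℤ) • x = (2 : ℤ) • y) : x = y := by
  funext i
  have := congrFun h i
  simp only [Pi.smul_apply, smul_eq_mul] at this
  omega

theorem xi_mem {x : V} (hx : x ∈ Λ) : xiF x ∈ Λ := by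
  let A := (Λ.map (zsmulAddGroupHom (2 : ℤ))).comap XM.mulVecLin.toAddMonoidHom
  have hA : ∀ x ∈ Λ, chk (xiF x) → x ∈ A := fun x hx h => ⟨_, chk_mem h, XM_even hx⟩
  obtain ⟨y, hy, e⟩ := le_of_gens (A := A)
    (fun i hi => hA _ (four_mem (by simp [Finset.sum_add_distrib, sum_e])) (by revert i; decide +kernel))
    (hA _ (four_mem (by simp [Finset.sum_sub_distrib, sum_e])) (by decide +kernel))
    (fun a ha => hA _ (two_mem (U_of (lall_iff.1 (show lall isCw BS = true by decide +kernel) a ha))) (by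
      rw [show χ (S a) = fun i => if tb a (ix i) = true then 1 else 0 by
        funext i; simp only [χ, S, mem_msk, tb_eq]]
      revert a; decide +kernel))
    (hA _ o3_mem (by decide +kernel)) hx
  rwa [two_inj ((XM_even hx).trans e.symm)]

/-- The extra automorphism. -/
noncomputable def xi : Co0 := mkAut xiF (fun _ => xi_mem)
  (fun x hx y hy => two_inj (by rw [smul_add, XM_even hx, XM_even hy, XM_even (Λ.add_mem hx hy), mulVec_add]))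
  fun x hx => by
    have h := sq_smul 2 (xiF x)
    rw [XM_even hx, sq_eq, show ∀ a b : V, dotInt a b = a ⬝ᵥ b from fun _ _ => rfl, dotProduct_mulVec,
      vecMul_mulVec, XM_orth, vecMul_smul, vecMul_one, smul_dotProduct,
      show ∀ a : V, a ⬝ᵥ a = dotInt a a from fun _ => rfl, ← sq_eq, smul_eq_mul] at h
    omega

/-- Reduction of the coordinates. -/
def red (F : Type*) [CommRing F] (x : Λ) : GolayPt → F := fun i => ((x : V) i : F)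

theorem g_eight (g : Co0) (x : Λ) (i : GolayPt) :
    8 * ((g • x : Λ) : V) i = ∑ j, ((g • f8 j : Λ) : V) i * (x : V) j := by
  have h1 := congrArg (fun y : Λ => (y : V) i) (g_zsmul g 8 x)
  rw [eight_smul, show g • ∑ i, (x : V) i • f8 i = ∑ i, (x : V) i • g • f8 i by
    rw [show ∀ y : Λ, g • y = gh g y from fun _ => rfl, map_sum]; simp only [map_zsmul]; rfl] at h1
  simp only [AddSubgroup.val_finsetSum, AddSubgroup.coe_zsmul, Finset.sum_apply, Pi.smul_apply,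
    smul_eq_mul] at h1
  rw [← h1]
  exact Finset.sum_congr rfl fun _ _ => mul_comm _ _

theorem rho_aux {F : Type*} [CommRing F] {c : F} (hc : 8 * c = 1) (g : Co0) (x : Λ) :
    (Matrix.of fun i j => red F (g • f8 j) i * c) *ᵥ red F x = red F (g • x) := by
  funext i
  have := congrArg (fun t : ℤ => (t : F) * c) (g_eight g x i)
  simp only [Int.cast_mul, Int.cast_sum, Finset.sum_mul, Int.cast_ofNat] at this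
  rw [mul_right_comm, hc, one_mul] at this
  rw [red, this]
  show ∑ j, red F (g • f8 j) i * c * red F x j = _
  exact Finset.sum_congr rfl fun _ _ => mul_right_comm _ _ _

/-- The matrix representation over a ring in which eight is invertible. -/
def rho (F : Type*) [CommRing F] (c : F) (hc : 8 * c = 1) : Co0 →* Matrix GolayPt GolayPt F where
  toFun g := Matrix.of fun i j => red F (g • f8 j) i * c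
  map_one' := by
    ext i j
    simp only [Matrix.of_apply, one_smul, red, f8, Pi.single_apply, Matrix.one_apply]
    split_ifs <;> simp [hc]
  map_mul' g h := by
    ext i j
    rw [Matrix.of_apply, mul_smul, ← rho_aux hc g, Matrix.mul_apply, mulVec, dotProduct, Finset.sum_mul]
    exact Finset.sum_congr rfl fun _ _ => mul_assoc _ _ _

theorem rho_act {F : Type*} [CommRing F] {c : F} (hc : 8 * c = 1) (g : Co0) (x : Λ) :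
    rho F c hc g *ᵥ red F x = red F (g • x) := rho_aux hc g x

/-- The empty codeword. -/
def U0 : U := ⟨∅, U_empty⟩

/-- Coordinate permutations. -/
noncomputable def mo : M24 →* Co0 := MonoidHom.mk' (fun σ => mono σ U0) fun σ τ => g_ext fun x =>
  Subtype.ext (by funext i; simp only [mul_smul, mono_val, signedPerm, U0, Finset.notMem_empty, if_false]; rfl)

theorem mo_val (σ : M24) (x : Λ) (i : GolayPt) : ((mo σ • x : Λ) : V) i = (x : V) (σ⁻¹ • i) := by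
  show ((mono σ U0 • x : Λ) : V) i = _
  simp only [mono_val, signedPerm, U0, Finset.notMem_empty, if_false]; rfl

/-- The generators. -/
noncomputable def gc (k : Nat) : Co0 := if k = 3 then xi else mo (gm k)

theorem gc_mo {w : List Nat} (h : ∀ x ∈ w, x < 6) : wprod gc w = mo (wprod gm w) := by
  induction w with
  | nil => simp
  | cons x w ih =>
    have := h x (by simp)
    rw [wprod_cons, wprod_cons, map_mul, ih fun y hy => h y (by simp [hy])]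
    unfold letter gc
    rw [if_neg (show x / 2 ≠ 3 by omega)]
    split_ifs <;> simp

/-- The field with seven elements. -/
abbrev F7 : Type := ZMod 7

/-- The representation modulo seven. -/
abbrev ρ7 : Co0 →* Matrix GolayPt GolayPt F7 := rho F7 1 (by decide)

theorem K7 : (arP 7).Ok (Nat.cast : Nat → F7) := arP_ok 7 (by norm_num)

/-- The matrices of the generators and their inverses. -/
def Ms : List (List (List Nat)) := [[[0,0,0,0,0,0,0,0,0,0,0,0,0,0,0,0,0,0,0,0,0,0,1,0],[1,0,0,0,0,0,0,0,0,0,0,0,0,0,0,0,0,0,0,0,0,0,0,0],[0,1,0,0,0,0,0,0,0,0,0,0,0,0,0,0,0,0,0,0,0,0,0,0],[0,0,1,0,0,0,0,0,0,0,0,0,0,0,0,0,0,0,0,0,0,0,0,0],[0,0,0,1,0,0,0,0,0,0,0,0,0,0,0,0,0,0,0,0,0,0,0,0],[0,0,0,0,1,0,0,0,0,0,0,0,0,0,0,0,0,0,0,0,0,0,0,0],[0,0,0,0,0,1,0,0,0,0,0,0,0,0,0,0,0,0,0,0,0,0,0,0],[0,0,0,0,0,0,1,0,0,0,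0,0,0,0,0,0,0,0,0,0,0,0,0,0],[0,0,0,0,0,0,0,1,0,0,0,0,0,0,0,0,0,0,0,0,0,0,0,0],[0,0,0,0,0,0,0,0,1,0,0,0,0,0,0,0,0,0,0,0,0,0,0,0],[0,0,0,0,0,0,0,0,0,1,0,0,0,0,0,0,0,0,0,0,0,0,0,0],[0,0,0,0,0,0,0,0,0,0,1,0,0,0,0,0,0,0,0,0,0,0,0,0],[0,0,0,0,0,0,0,0,0,0,0,1,0,0,0,0,0,0,0,0,0,0,0,0],[0,0,0,0,0,0,0,0,0,0,0,0,1,0,0,0,0,0,0,0,0,0,0,0],[0,0,0,0,0,0,0,0,0,0,0,0,0,1,0,0,0,0,0,0,0,0,0,0],[0,0,0,0,0,0,0,0,0,0,0,0,0,0,1,0,0,0,0,0,0,0,0,0],[0,0,0,0,0,0,0,0,0,0,0,0,0,0,0,1,0,0,0,0,0,0,0,0],[0,0,0,0,0,0,0,0,0,0,0,0,0,0,0,0,1,0,0,0,0,0,0,0],[0,0,0,0,0,0,0,0,0,0,0,0,0,0,0,0,0,1,0,0,0,0,0,0],[0,0,0,0,0,0,0,0,0,0,0,0,0,0,0,0,0,0,1,0,0,0,0,0],[0,0,0,0,0,0,0,0,0,0,0,0,0,0,0,0,0,0,0,1,0,0,0,0],[0,0,0,0,0,0,0,0,0,0,0,0,0,0,0,0,0,0,0,0,1,0,0,0],[0,0,0,0,0,0,0,0,0,0,0,0,0,0,0,0,0,0,0,0,0,1,0,0],[0,0,0,0,0,0,0,0,0,0,0,0,0,0,0,0,0,0,0,0,0,0,0,1]],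
  [[0,1,0,0,0,0,0,0,0,0,0,0,0,0,0,0,0,0,0,0,0,0,0,0],[0,0,1,0,0,0,0,0,0,0,0,0,0,0,0,0,0,0,0,0,0,0,0,0],[0,0,0,1,0,0,0,0,0,0,0,0,0,0,0,0,0,0,0,0,0,0,0,0],[0,0,0,0,1,0,0,0,0,0,0,0,0,0,0,0,0,0,0,0,0,0,0,0],[0,0,0,0,0,1,0,0,0,0,0,0,0,0,0,0,0,0,0,0,0,0,0,0],[0,0,0,0,0,0,1,0,0,0,0,0,0,0,0,0,0,0,0,0,0,0,0,0],[0,0,0,0,0,0,0,1,0,0,0,0,0,0,0,0,0,0,0,0,0,0,0,0],[0,0,0,0,0,0,0,0,1,0,0,0,0,0,0,0,0,0,0,0,0,0,0,0],[0,0,0,0,0,0,0,0,0,1,0,0,0,0,0,0,0,0,0,0,0,0,0,0],[0,0,0,0,0,0,0,0,0,0,1,0,0,0,0,0,0,0,0,0,0,0,0,0],[0,0,0,0,0,0,0,0,0,0,0,1,0,0,0,0,0,0,0,0,0,0,0,0],[0,0,0,0,0,0,0,0,0,0,0,0,1,0,0,0,0,0,0,0,0,0,0,0],[0,0,0,0,0,0,0,0,0,0,0,0,0,1,0,0,0,0,0,0,0,0,0,0],[0,0,0,0,0,0,0,0,0,0,0,0,0,0,1,0,0,0,0,0,0,0,0,0],[0,0,0,0,0,0,0,0,0,0,0,0,0,0,0,1,0,0,0,0,0,0,0,0],[0,0,0,0,0,0,0,0,0,0,0,0,0,0,0,0,1,0,0,0,0,0,0,0],[0,0,0,0,0,0,0,0,0,0,0,0,0,0,0,0,0,1,0,0,0,0,0,0],[0,0,0,0,0,0,0,0,0,0,0,0,0,0,0,0,0,0,1,0,0,0,0,0],[0,0,0,0,0,0,0,0,0,0,0,0,0,0,0,0,0,0,0,1,0,0,0,0],[0,0,0,0,0,0,0,0,0,0,0,0,0,0,0,0,0,0,0,0,1,0,0,0],[0,0,0,0,0,0,0,0,0,0,0,0,0,0,0,0,0,0,0,0,0,1,0,0],[0,0,0,0,0,0,0,0,0,0,0,0,0,0,0,0,0,0,0,0,0,0,1,0],[1,0,0,0,0,0,0,0,0,0,0,0,0,0,0,0,0,0,0,0,0,0,0,0],[0,0,0,0,0,0,0,0,0,0,0,0,0,0,0,0,0,0,0,0,0,0,0,1]],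
  [[0,0,0,0,0,0,0,0,0,0,0,0,0,0,0,0,0,0,0,0,0,0,0,1],[0,0,0,0,0,0,0,0,0,0,0,0,0,0,0,0,0,0,0,0,0,0,1,0],[0,0,0,0,0,0,0,0,0,0,0,1,0,0,0,0,0,0,0,0,0,0,0,0],[0,0,0,0,0,0,0,0,0,0,0,0,0,0,0,1,0,0,0,0,0,0,0,0],[0,0,0,0,0,0,0,0,0,0,0,0,0,0,0,0,0,1,0,0,0,0,0,0],[0,0,0,0,0,0,0,0,0,1,0,0,0,0,0,0,0,0,0,0,0,0,0,0],[0,0,0,0,0,0,0,0,0,0,0,0,0,0,0,0,0,0,0,1,0,0,0,0],[0,0,0,0,0,0,0,0,0,0,0,0,0,1,0,0,0,0,0,0,0,0,0,0],[0,0,0,0,0,0,0,0,0,0,0,0,0,0,0,0,0,0,0,0,1,0,0,0],[0,0,0,0,0,1,0,0,0,0,0,0,0,0,0,0,0,0,0,0,0,0,0,0],[0,0,0,0,0,0,0,0,0,0,0,0,0,0,0,0,1,0,0,0,0,0,0,0],[0,0,1,0,0,0,0,0,0,0,0,0,0,0,0,0,0,0,0,0,0,0,0,0],[0,0,0,0,0,0,0,0,0,0,0,0,0,0,0,0,0,0,0,0,0,1,0,0],[0,0,0,0,0,0,0,1,0,0,0,0,0,0,0,0,0,0,0,0,0,0,0,0],[0,0,0,0,0,0,0,0,0,0,0,0,0,0,0,0,0,0,1,0,0,0,0,0],[0,0,0,1,0,0,0,0,0,0,0,0,0,0,0,0,0,0,0,0,0,0,0,0],[0,0,0,0,0,0,0,0,0,0,1,0,0,0,0,0,0,0,0,0,0,0,0,0],[0,0,0,0,1,0,0,0,0,0,0,0,0,0,0,0,0,0,0,0,0,0,0,0],[0,0,0,0,0,0,0,0,0,0,0,0,0,0,1,0,0,0,0,0,0,0,0,0],[0,0,0,0,0,0,1,0,0,0,0,0,0,0,0,0,0,0,0,0,0,0,0,0],[0,0,0,0,0,0,0,0,1,0,0,0,0,0,0,0,0,0,0,0,0,0,0,0],[0,0,0,0,0,0,0,0,0,0,0,0,1,0,0,0,0,0,0,0,0,0,0,0],[0,1,0,0,0,0,0,0,0,0,0,0,0,0,0,0,0,0,0,0,0,0,0,0],[1,0,0,0,0,0,0,0,0,0,0,0,0,0,0,0,0,0,0,0,0,0,0,0]],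
  [[0,0,0,0,0,0,0,0,0,0,0,0,0,0,0,0,0,0,0,0,0,0,0,1],[0,0,0,0,0,0,0,0,0,0,0,0,0,0,0,0,0,0,0,0,0,0,1,0],[0,0,0,0,0,0,0,0,0,0,0,1,0,0,0,0,0,0,0,0,0,0,0,0],[0,0,0,0,0,0,0,0,0,0,0,0,0,0,0,1,0,0,0,0,0,0,0,0],[0,0,0,0,0,0,0,0,0,0,0,0,0,0,0,0,0,1,0,0,0,0,0,0],[0,0,0,0,0,0,0,0,0,1,0,0,0,0,0,0,0,0,0,0,0,0,0,0],[0,0,0,0,0,0,0,0,0,0,0,0,0,0,0,0,0,0,0,1,0,0,0,0],[0,0,0,0,0,0,0,0,0,0,0,0,0,1,0,0,0,0,0,0,0,0,0,0],[0,0,0,0,0,0,0,0,0,0,0,0,0,0,0,0,0,0,0,0,1,0,0,0],[0,0,0,0,0,1,0,0,0,0,0,0,0,0,0,0,0,0,0,0,0,0,0,0],[0,0,0,0,0,0,0,0,0,0,0,0,0,0,0,0,1,0,0,0,0,0,0,0],[0,0,1,0,0,0,0,0,0,0,0,0,0,0,0,0,0,0,0,0,0,0,0,0],[0,0,0,0,0,0,0,0,0,0,0,0,0,0,0,0,0,0,0,0,0,1,0,0],[0,0,0,0,0,0,0,1,0,0,0,0,0,0,0,0,0,0,0,0,0,0,0,0],[0,0,0,0,0,0,0,0,0,0,0,0,0,0,0,0,0,0,1,0,0,0,0,0],[0,0,0,1,0,0,0,0,0,0,0,0,0,0,0,0,0,0,0,0,0,0,0,0],[0,0,0,0,0,0,0,0,0,0,1,0,0,0,0,0,0,0,0,0,0,0,0,0],[0,0,0,0,1,0,0,0,0,0,0,0,0,0,0,0,0,0,0,0,0,0,0,0],[0,0,0,0,0,0,0,0,0,0,0,0,0,0,1,0,0,0,0,0,0,0,0,0],[0,0,0,0,0,0,1,0,0,0,0,0,0,0,0,0,0,0,0,0,0,0,0,0],[0,0,0,0,0,0,0,0,1,0,0,0,0,0,0,0,0,0,0,0,0,0,0,0],[0,0,0,0,0,0,0,0,0,0,0,0,1,0,0,0,0,0,0,0,0,0,0,0],[0,1,0,0,0,0,0,0,0,0,0,0,0,0,0,0,0,0,0,0,0,0,0,0],[1,0,0,0,0,0,0,0,0,0,0,0,0,0,0,0,0,0,0,0,0,0,0,0]],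
  [[1,0,0,0,0,0,0,0,0,0,0,0,0,0,0,0,0,0,0,0,0,0,0,0],[0,0,0,0,0,0,1,0,0,0,0,0,0,0,0,0,0,0,0,0,0,0,0,0],[0,0,0,0,1,0,0,0,0,0,0,0,0,0,0,0,0,0,0,0,0,0,0,0],[0,0,0,1,0,0,0,0,0,0,0,0,0,0,0,0,0,0,0,0,0,0,0,0],[0,0,0,0,0,0,0,0,0,0,0,0,0,0,0,0,0,0,1,0,0,0,0,0],[0,0,0,0,0,0,0,1,0,0,0,0,0,0,0,0,0,0,0,0,0,0,0,0],[0,0,1,0,0,0,0,0,0,0,0,0,0,0,0,0,0,0,0,0,0,0,0,0],[0,0,0,0,0,0,0,0,0,0,1,0,0,0,0,0,0,0,0,0,0,0,0,0],[0,0,0,0,0,0,0,0,0,0,0,0,1,0,0,0,0,0,0,0,0,0,0,0],[0,0,0,0,0,0,0,0,0,0,0,0,0,1,0,0,0,0,0,0,0,0,0,0],[0,0,0,0,0,0,0,0,0,0,0,0,0,0,0,0,0,0,0,0,1,0,0,0],[0,0,0,0,0,0,0,0,0,0,0,0,0,0,0,0,0,1,0,0,0,0,0,0],[0,0,0,0,0,0,0,0,0,1,0,0,0,0,0,0,0,0,0,0,0,0,0,0],[0,0,0,0,0,0,0,0,0,0,0,0,0,0,0,0,1,0,0,0,0,0,0,0],[0,0,0,0,0,0,0,0,0,0,0,0,0,0,0,0,0,0,0,0,0,0,1,0],[0,0,0,0,0,0,0,0,0,0,0,0,0,0,0,1,0,0,0,0,0,0,0,0],[0,0,0,0,0,0,0,0,1,0,0,0,0,0,0,0,0,0,0,0,0,0,0,0],[0,0,0,0,0,0,0,0,0,0,0,0,0,0,1,0,0,0,0,0,0,0,0,0],[0,1,0,0,0,0,0,0,0,0,0,0,0,0,0,0,0,0,0,0,0,0,0,0],[0,0,0,0,0,0,0,0,0,0,0,1,0,0,0,0,0,0,0,0,0,0,0,0],[0,0,0,0,0,0,0,0,0,0,0,0,0,0,0,0,0,0,0,0,0,1,0,0],[0,0,0,0,0,1,0,0,0,0,0,0,0,0,0,0,0,0,0,0,0,0,0,0],[0,0,0,0,0,0,0,0,0,0,0,0,0,0,0,0,0,0,0,1,0,0,0,0],[0,0,0,0,0,0,0,0,0,0,0,0,0,0,0,0,0,0,0,0,0,0,0,1]],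
  [[1,0,0,0,0,0,0,0,0,0,0,0,0,0,0,0,0,0,0,0,0,0,0,0],[0,0,0,0,0,0,0,0,0,0,0,0,0,0,0,0,0,0,1,0,0,0,0,0],[0,0,0,0,0,0,1,0,0,0,0,0,0,0,0,0,0,0,0,0,0,0,0,0],[0,0,0,1,0,0,0,0,0,0,0,0,0,0,0,0,0,0,0,0,0,0,0,0],[0,0,1,0,0,0,0,0,0,0,0,0,0,0,0,0,0,0,0,0,0,0,0,0],[0,0,0,0,0,0,0,0,0,0,0,0,0,0,0,0,0,0,0,0,0,1,0,0],[0,1,0,0,0,0,0,0,0,0,0,0,0,0,0,0,0,0,0,0,0,0,0,0],[0,0,0,0,0,1,0,0,0,0,0,0,0,0,0,0,0,0,0,0,0,0,0,0],[0,0,0,0,0,0,0,0,0,0,0,0,0,0,0,0,1,0,0,0,0,0,0,0],[0,0,0,0,0,0,0,0,0,0,0,0,1,0,0,0,0,0,0,0,0,0,0,0],[0,0,0,0,0,0,0,1,0,0,0,0,0,0,0,0,0,0,0,0,0,0,0,0],[0,0,0,0,0,0,0,0,0,0,0,0,0,0,0,0,0,0,0,1,0,0,0,0],[0,0,0,0,0,0,0,0,1,0,0,0,0,0,0,0,0,0,0,0,0,0,0,0],[0,0,0,0,0,0,0,0,0,1,0,0,0,0,0,0,0,0,0,0,0,0,0,0],[0,0,0,0,0,0,0,0,0,0,0,0,0,0,0,0,0,1,0,0,0,0,0,0],[0,0,0,0,0,0,0,0,0,0,0,0,0,0,0,1,0,0,0,0,0,0,0,0],[0,0,0,0,0,0,0,0,0,0,0,0,0,1,0,0,0,0,0,0,0,0,0,0],[0,0,0,0,0,0,0,0,0,0,0,1,0,0,0,0,0,0,0,0,0,0,0,0],[0,0,0,0,1,0,0,0,0,0,0,0,0,0,0,0,0,0,0,0,0,0,0,0],[0,0,0,0,0,0,0,0,0,0,0,0,0,0,0,0,0,0,0,0,0,0,1,0],[0,0,0,0,0,0,0,0,0,0,1,0,0,0,0,0,0,0,0,0,0,0,0,0],[0,0,0,0,0,0,0,0,0,0,0,0,0,0,0,0,0,0,0,0,1,0,0,0],[0,0,0,0,0,0,0,0,0,0,0,0,0,0,1,0,0,0,0,0,0,0,0,0],[0,0,0,0,0,0,0,0,0,0,0,0,0,0,0,0,0,0,0,0,0,0,0,1]],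
  [[3,4,4,0,0,0,0,0,0,0,0,0,0,0,0,0,0,0,0,0,0,0,0,4],[4,3,4,0,0,0,0,0,0,0,0,0,0,0,0,0,0,0,0,0,0,0,0,4],[4,4,3,0,0,0,0,0,0,0,0,0,0,0,0,0,0,0,0,0,0,0,0,4],[0,0,0,4,0,3,0,0,0,0,0,0,0,0,3,0,0,3,0,0,0,0,0,0],[0,0,0,0,4,0,0,0,0,0,0,0,0,3,0,0,3,0,0,0,0,0,3,0],[0,0,0,3,0,4,0,0,0,0,0,0,0,0,3,0,0,3,0,0,0,0,0,0],[0,0,0,0,0,0,4,3,0,0,0,0,0,0,0,0,0,0,0,3,0,3,0,0],[0,0,0,0,0,0,3,4,0,0,0,0,0,0,0,0,0,0,0,3,0,3,0,0],[0,0,0,0,0,0,0,0,4,0,0,3,3,0,0,0,0,0,3,0,0,0,0,0],[0,0,0,0,0,0,0,0,0,4,3,0,0,0,0,3,0,0,0,0,3,0,0,0],[0,0,0,0,0,0,0,0,0,3,4,0,0,0,0,3,0,0,0,0,3,0,0,0],[0,0,0,0,0,0,0,0,3,0,0,4,3,0,0,0,0,0,3,0,0,0,0,0],[0,0,0,0,0,0,0,0,3,0,0,3,4,0,0,0,0,0,3,0,0,0,0,0],[0,0,0,0,3,0,0,0,0,0,0,0,0,4,0,0,3,0,0,0,0,0,3,0],[0,0,0,3,0,3,0,0,0,0,0,0,0,0,4,0,0,3,0,0,0,0,0,0],[0,0,0,0,0,0,0,0,0,3,3,0,0,0,0,4,0,0,0,0,3,0,0,0],[0,0,0,0,3,0,0,0,0,0,0,0,0,3,0,0,4,0,0,0,0,0,3,0],[0,0,0,3,0,3,0,0,0,0,0,0,0,0,3,0,0,4,0,0,0,0,0,0],[0,0,0,0,0,0,0,0,3,0,0,3,3,0,0,0,0,0,4,0,0,0,0,0],[0,0,0,0,0,0,3,3,0,0,0,0,0,0,0,0,0,0,0,4,0,3,0,0],[0,0,0,0,0,0,0,0,0,3,3,0,0,0,0,3,0,0,0,0,4,0,0,0],[0,0,0,0,0,0,3,3,0,0,0,0,0,0,0,0,0,0,0,3,0,4,0,0],[0,0,0,0,3,0,0,0,0,0,0,0,0,3,0,0,3,0,0,0,0,0,4,0],[4,4,4,0,0,0,0,0,0,0,0,0,0,0,0,0,0,0,0,0,0,0,0,3]],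
  [[3,4,4,0,0,0,0,0,0,0,0,0,0,0,0,0,0,0,0,0,0,0,0,4],[4,3,4,0,0,0,0,0,0,0,0,0,0,0,0,0,0,0,0,0,0,0,0,4],[4,4,3,0,0,0,0,0,0,0,0,0,0,0,0,0,0,0,0,0,0,0,0,4],[0,0,0,4,0,3,0,0,0,0,0,0,0,0,3,0,0,3,0,0,0,0,0,0],[0,0,0,0,4,0,0,0,0,0,0,0,0,3,0,0,3,0,0,0,0,0,3,0],[0,0,0,3,0,4,0,0,0,0,0,0,0,0,3,0,0,3,0,0,0,0,0,0],[0,0,0,0,0,0,4,3,0,0,0,0,0,0,0,0,0,0,0,3,0,3,0,0],[0,0,0,0,0,0,3,4,0,0,0,0,0,0,0,0,0,0,0,3,0,3,0,0],[0,0,0,0,0,0,0,0,4,0,0,3,3,0,0,0,0,0,3,0,0,0,0,0],[0,0,0,0,0,0,0,0,0,4,3,0,0,0,0,3,0,0,0,0,3,0,0,0],[0,0,0,0,0,0,0,0,0,3,4,0,0,0,0,3,0,0,0,0,3,0,0,0],[0,0,0,0,0,0,0,0,3,0,0,4,3,0,0,0,0,0,3,0,0,0,0,0],[0,0,0,0,0,0,0,0,3,0,0,3,4,0,0,0,0,0,3,0,0,0,0,0],[0,0,0,0,3,0,0,0,0,0,0,0,0,4,0,0,3,0,0,0,0,0,3,0],[0,0,0,3,0,3,0,0,0,0,0,0,0,0,4,0,0,3,0,0,0,0,0,0],[0,0,0,0,0,0,0,0,0,3,3,0,0,0,0,4,0,0,0,0,3,0,0,0],[0,0,0,0,3,0,0,0,0,0,0,0,0,3,0,0,4,0,0,0,0,0,3,0],[0,0,0,3,0,3,0,0,0,0,0,0,0,0,3,0,0,4,0,0,0,0,0,0],[0,0,0,0,0,0,0,0,3,0,0,3,3,0,0,0,0,0,4,0,0,0,0,0],[0,0,0,0,0,0,3,3,0,0,0,0,0,0,0,0,0,0,0,4,0,3,0,0],[0,0,0,0,0,0,0,0,0,3,3,0,0,0,0,3,0,0,0,0,4,0,0,0],[0,0,0,0,0,0,3,3,0,0,0,0,0,0,0,0,0,0,0,3,0,4,0,0],[0,0,0,0,3,0,0,0,0,0,0,0,0,3,0,0,3,0,0,0,0,0,4,0],[4,4,4,0,0,0,0,0,0,0,0,0,0,0,0,0,0,0,0,0,0,0,0,3]]]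

theorem Ms_ok : (arP 7).mOk 24 Ms = true := by decide +kernel

theorem matOf : MatOf ρ7 Nat.cast ix gc Ms (List.range 8) := by
  refine K7.matOf I Ms_ok 4 (fun k hk => ?_) (by decide +kernel)
  ext i j
  show red F7 (gc k • f8 j) i * 1 = _
  by_cases h : k = 3
  · subst h
    exact (show ∀ i j, ((xiF (Pi.single j 8) i : ℤ) : F7) * 1 = (nth (wordAt (matAt Ms 6) (ix i)) (ix j) : Nat) by
      decide +kernel) i j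
  · rw [gc, if_neg h, red, mo_val, f8]
    have e : (gm k)⁻¹ • i = j ↔ ix i = (netAt lP k).ap (ix j) := by
      rw [← I.act RP, inv_smul_eq_iff]
      exact ⟨fun e => by rw [e], fun e => by rw [← I.px_ix i, e, I.px_ix]⟩
    simp only [Pi.single_apply, e]
    exact (show ∀ k < 3, ∀ i j, (((if ix i = (netAt lP k).ap (ix j) then 8 else 0 : ℤ) : F7) * 1 =
      (nth (wordAt (matAt Ms (2 * k)) (ix i)) (ix j) : Nat)) by decide +kernel) k (by omega) i j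

theorem red_inj {x y : Λ} (hx : sqNorm (x : V) ≤ 64) (hy : sqNorm (y : V) ≤ 64) (h : red F7 x = red F7 y) :
    x = y := by
  have e : (x : V) - y = (7 : ℤ) • fun i => ((x : V) i - (y : V) i) / 7 := by
    funext i
    have := (ZMod.intCast_eq_intCast_iff' _ _ _).1 (congrFun h i)
    simp only [Pi.sub_apply, Pi.smul_apply, smul_eq_mul]
    push_cast at this
    omega
  have h1 := dvd16 (x - y).2
  have h2 := sq_nonneg' ((x : V) + y)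
  have h3 := sq_sub (x : V) y
  rw [sq_add] at h2
  rw [AddSubgroup.coe_sub, e, sq_smul] at h1
  rw [e, sq_smul] at h3
  have h4 := sq_nonneg' fun i => ((x : V) i - (y : V) i) / 7
  rw [sq_zero (x := fun i => ((x : V) i - (y : V) i) / 7) (by omega), smul_zero] at e
  exact Subtype.ext (sub_eq_zero.1 e)

theorem red_dot (x y : Λ) : red F7 x ⬝ᵥ red F7 y = ((dotInt (x : V) (y : V) : ℤ) : F7) := by
  simp [dotProduct, red, dotInt]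

/-- The explicit vector of a list. -/
def lv (L : List ℤ) : V := fun i => L.getD (ix i) 0

/-- The lattice vector of a list. -/
def lw (L : List ℤ) (h : chk (lv L)) : Λ := ⟨lv L, chk_mem h⟩

/-- The residues of a vector are the listed ones. -/
def Rd (v : Λ) (L : List Nat) : Prop := ∀ i, (((v : V) i : ℤ) : F7) = (nth L (ix i) : Nat)

noncomputable instance (v : Λ) (L : List Nat) : Decidable (Rd v L) := by unfold Rd; infer_instance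

theorem Rd.eq {v : Λ} {L : List Nat} (h : Rd v L) : red F7 v = cvec Nat.cast ix L := funext h

/-- Single vectors as planes. -/
def pl1 (L : List Nat) : List (List Nat) := L.map fun a => [a % 2, a / 2 % 2, a / 4 % 2]

theorem word_maps {u v : Λ} {L L' : List Nat} (h1 : Rd u L) (h2 : Rd v L') (hu : sqNorm (u : V) ≤ 64)
    (hv : sqNorm (v : V) ≤ 64) {w : List Nat} (hc : band (band (inL (List.range 8) [w])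
      (decide (vAt (pl1 L) 0 = L ∧ vAt (pl1 L') 0 = L'))) ((arP 7).mapK 1 24 Ms (pl1 L) (pl1 L') w) = true) :
    wprod gc w • u = v := by
  obtain ⟨a1, a2⟩ := band_iff.1 hc
  obtain ⟨a1, a3⟩ := band_iff.1 a1
  have a3 := of_decide_eq_true a3
  refine red_inj (by rwa [g_norm]) hv ?_
  have := K7.mapK I Ms_ok a2 0 one_pos
  rwa [vpt_eq, vpt_eq, a3.1, a3.2, ← h1.eq, ← h2.eq,
    ← show ρ7 (wprod gc w) = matW Nat.cast ix Ms w from matOf.wordAt a1 0,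
    rho_act] at this

theorem words_fix {u : Λ} {L : List Nat} (h1 : Rd u L) (hu : sqNorm (u : V) ≤ 64) {W : List (List Nat)}
    (hc : lall (fun w => band (band (inL (List.range 8) [w]) (decide (vAt (pl1 L) 0 = L ∧ vAt (pl1 L) 0 = L)))
      ((arP 7).mapK 1 24 Ms (pl1 L) (pl1 L) w)) W = true) : ∀ w ∈ W, wprod gc w ∈ stabilizer Co0 u :=
  fun w hw => word_maps h1 h1 hu hu (lall_iff.1 hc w hw)

/-- A numbered family of minimal vectors with the action of some words. -/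
structure LR (T : Set Λ) (pt : Nat → Λ) (n : Nat) (g : Nat → Co0) (l : List Net) (P : List (List Nat)) :
    Prop where
  fam : Fam T pt n
  rep : Rep pt n g l
  rd : ∀ i < n, red F7 (pt i) = vpt Nat.cast ix P i
  nrm : ∀ x ∈ T, sqNorm (x : V) = 32
  ok : (arP 7).okP n 24 P = true

theorem LR.of {T : Set Λ} (hT : ∀ x ∈ T, sqNorm (x : V) = 32) (W0 : List (List Nat))
    (hW : ∀ k, ∀ a ∈ T, wprod gc (wordAt W0 k) • a ∈ T) {n : Nat} {l : List Net} {P : List (List Nat)}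
    (hP : (arP 7).okP n 24 P = true) (hc : band (band (netsOk l) (netsPres l n))
      (band (Nat.beq W0.length l.length) (inL (List.range 8) W0)) = true)
    (hk : ∀ k < l.length, (arP 7).vecK n 24 Ms P (netAt l k) (wordAt W0 k) = true) {a : Λ} (ha : a ∈ T)
    (b : Nat) (hb : Rd a (vAt P b)) (W : List (List Nat)) (sched : List Nat)
    (h2 : band (band (Nat.blt b n) ((arP 7).rOk 24 (vAt P b))) (band (subs (ones n) (bfsS l W sched (sing b)))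
      (Nat.beq ((arP 7).eqB n 24 P (vAt P b) 1) (sing b))) = true) (hn : T.ncard ≤ n) :
    ∃ pt, LR T pt n (fun k => wprod gc (wordAt W0 k)) l P := by
  obtain ⟨c1, c2⟩ := band_iff.1 hc
  obtain ⟨c1, c3⟩ := band_iff.1 c1
  obtain ⟨c2, c4⟩ := band_iff.1 c2
  obtain ⟨d1, d2⟩ := band_iff.1 h2
  obtain ⟨d1, d3⟩ := band_iff.1 d1
  obtain ⟨pt, h1, R⟩ := Rep.of_res hW (r := red F7) (fun x hx y hy => red_inj (by rw [hT x hx]; norm_num)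
    (by rw [hT y hy]; norm_num)) (fun k v => matW Nat.cast ix Ms (wordAt W0 k) *ᵥ v)
    (fun k _ a _ => by rw [← rho_act (c := 1) (by decide), matOf.wordAt c4])
    (fun k hk => by rw [wordAt_of_le _ (by rw [Nat.eq_of_beq_eq_true c2]; exact hk)]; rfl) c1 c3
    (fun k hk' => K7.vecK I Ms_ok hP (netAt_ok c1 k) (fun i hi => (netsPres_spec c1 c3 k i).2 hi) (hk k hk'))
    ha (hb.eq.trans (vpt_eq P b).symm) W sched (band_iff.1 d2).1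
  have hb' : b < n := by simpa [Nat.blt_eq] using d1
  refine ⟨pt, Fam.of_card (R.inj_rb W sched b (ψ := fun y => red F7 y = vpt Nat.cast ix P b)
    (fun i hi => ?_) (hb := (h1 b hb').2) (hc := d2)) (fun i hi => (h1 i hi).1)
    ((finite_normL 32).subset hT) hn, R, fun i hi => (h1 i hi).2, hT, hP⟩
  rw [K7.rb_eq I hP d3 (c := 1) (by decide) i hi]
  beta_reduce
  rw [(h1 i hi).2, vpt_eq P b]
  simp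

variable {T : Set Λ} {pt : Nat → Λ} {n : Nat} {g : Nat → Co0} {l : List Net} {P : List (List Nat)}

theorem LR.pt_eq (h : LR T pt n g l P) {v : Λ} (b : Nat) (hv : sqNorm (v : V) = 32 ∧ b < n ∧ Rd v (vAt P b)) :
    pt b = v :=
  red_inj (by rw [h.nrm _ (h.fam.mem b hv.2.1)]; norm_num) (by rw [hv.1]; norm_num)
    (by rw [h.rd b hv.2.1, hv.2.2.eq, vpt_eq])

theorem dot_cases {v x : Λ} (hx : sqNorm (x : V) = 32) (hv : sqNorm (v : V) = 32 ∨ sqNorm (v : V) = 48) :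
    dotInt (v : V) (x : V) % 8 = 0 ∧ (v ≠ x → 2 * dotInt (v : V) (x : V) ≤ sqNorm (v : V)) ∧
      (v ≠ -x → -sqNorm (v : V) ≤ 2 * dotInt (v : V) (x : V)) := by
  refine ⟨dvd8 v.2 x.2, fun h => ?_, fun h => ?_⟩
  · have := min32 (v - x).2 fun e => h (sub_eq_zero.1 (Subtype.ext e))
    rw [AddSubgroup.coe_sub, sq_sub] at this
    omega
  · have := min32 (v + x).2 fun e => h (eq_neg_of_add_eq_zero_left (Subtype.ext e))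
    rw [AddSubgroup.coe_add, sq_add] at this
    omega

/-- The points with a given product with a listed vector. -/
noncomputable def dm (n : Nat) (P : List (List Nat)) (L : List Nat) (c : Nat) : Nat := (arP 7).dotB n 24 P L c

theorem LR.dot (h : LR T pt n g l P) {v : Λ} (L : List Nat) (c : Nat) {d : ℤ}
    (hv : Rd v L ∧ (sqNorm (v : V) = 32 ∨ sqNorm (v : V) = 48) ∧ band ((arP 7).rOk 24 L) (Nat.blt c 7) = true ∧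
      d % 8 = 0 ∧ d % 7 = c ∧ (-sqNorm (v : V) ≤ 2 * d ∧ 2 * d ≤ sqNorm (v : V) ∨
        sqNorm (v : V) = 32 ∧ (d = 32 ∨ d = -32))) :
    Rb pt n (dm n P L c) fun x => dotInt (v : V) (x : V) = d := by
  obtain ⟨h1, h2, h3, h4, h5, h6⟩ := hv
  intro i hi
  have hx := h.nrm _ (h.fam.mem i hi)
  rw [dm, K7.rb_dot I h.ok h3 i hi, ← h.rd i hi, ← h1.eq]
  beta_reduce
  rw [red_dot, ← Int.cast_natCast,
    ZMod.intCast_eq_intCast_iff']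
  obtain ⟨a1, a2, a3⟩ := dot_cases hx h2
  have e1 : v = pt i → dotInt (v : V) (pt i : V) = 32 ∧ sqNorm (v : V) = 32 := fun e => by
    rw [e, ← sq_eq]; exact ⟨hx, hx⟩
  have e2 : v = -pt i → dotInt (v : V) (pt i : V) = -32 ∧ sqNorm (v : V) = 32 := fun e => by
    rw [e, AddSubgroup.coe_neg, neg_dot, ← sq_eq, sq_neg, hx]; exact ⟨rfl, rfl⟩
  push_cast
  by_cases b1 : v = pt i
  · have := e1 b1; omega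
  by_cases b2 : v = -pt i
  · have := e2 b2; omega
  have := a2 b1; have := a3 b2
  omega

end CfsgH7.Lee
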