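import Cfsg.Agent.H7.Lee.Count

/-! Short vectors in the classes modulo twice a lattice. -/

set_option autoImplicit false
set_option maxRecDepth 100000

namespace CfsgH7.Lee

open Cfsg CfsgH7.Gol MulAction
open scoped Pointwise

attribute [-simp] Fintype.sum_option

/-- An even lattice without roots at scale `s`. -/
structure Ev {M : Type*} [AddCommGroup M] (b : M →+ M →+ ℤ) (s : ℤ) : Prop where
  symm : ∀ x y, b x y = b y x
  pos : 0 < s
  ev : ∀ x, 2 * s ∣ b x x
  min : ∀ x, x ≠ 0 → 4 * s ≤ b x x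

variable {M : Type*} [AddCommGroup M] {b : M →+ M →+ ℤ} {s : ℤ}

theorem Ev.pair (h : Ev b s) {x y : M} (hx : b x x ≤ 8 * s) (hy : b y y ≤ 8 * s) (hc : x - y ∈ two M)
    (h1 : y ≠ x) (h2 : y ≠ -x) : b x x = 8 * s ∧ b y y = 8 * s ∧ b x y = 0 := by
  obtain ⟨z, hz⟩ := mem_two.1 hc
  obtain rfl : x = y + z + z := by rw [add_assoc, ← two_zsmul, ← hz]; abel
  have a1 := h.min z (by rintro rfl; simp at h1)
  have a2 := h.min (y + z) (fun e => h2 (by rw [e, zero_add, eq_neg_iff_add_eq_zero, e]))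
  simp only [map_add, AddMonoidHom.add_apply, h.symm z y] at *
  omega

theorem Ev.ne_neg (h : Ev b s) {x : M} (hx : x ≠ 0) : x ≠ -x := fun e => by
  have a := h.min x hx
  have := h.pos
  have : b x x = -b x x := by rw [← map_neg, ← e]
  omega

theorem Ev.orth (h : Ev b s) {ι : Type*} [Fintype ι] (f : M →+ (ι → ℤ)) (hf : Function.Injective f)
    (S : Finset M) (h0 : ∀ x ∈ S, x ≠ 0) (h1 : ∀ x ∈ S, ∀ y ∈ S, y ≠ x → b x y = 0) :
    S.card ≤ Fintype.card ι := by
  classical
  have : LinearIndependent ℤ fun x : S => f x := by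
    rw [Fintype.linearIndependent_iff]
    intro g hg x
    have e : ∑ y : S, g y • (y : M) = 0 := hf (by simpa [map_sum] using hg)
    have := congrArg (b x) e
    rw [map_sum, Finset.sum_eq_single x (fun y _ hy => by
      rw [map_zsmul, h1 _ x.2 _ y.2 (Subtype.val_injective.ne hy), smul_zero]) (by simp), map_zsmul,
      map_zero, smul_eq_mul] at this
    have a := h.min x (h0 _ x.2)
    have := h.pos
    exact (mul_eq_zero.1 ‹_›).resolve_right (by omega)
  simpa using this.fintype_card_le_finrank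

theorem Ev.cls (h : Ev b s) {ι : Type*} [Fintype ι] (f : M →+ (ι → ℤ)) (hf : Function.Injective f)
    (C : Finset M) (h0 : ∀ x ∈ C, b x x = 8 * s) (h1 : ∀ x ∈ C, ∀ y ∈ C, x - y ∈ two M) :
    C.card ≤ 2 * Fintype.card ι := by
  classical
  letI := linearOrderOfSTO (WellOrderingRel (α := M))
  have hp := h.pos
  have hn : ∀ x ∈ C, x ≠ 0 := fun x hx e => by have := h0 x hx; simp [e] at this; omega
  have key : ∀ S ⊆ C, (∀ x ∈ S, -x ∉ S) → S.card ≤ Fintype.card ι := fun S hS hs =>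
    h.orth f hf S (fun x hx => hn x (hS hx)) fun x hx y hy e =>
      (h.pair (h0 x (hS hx)).le (h0 y (hS hy)).le (h1 x (hS hx) y (hS hy)) e
        fun e => hs x hx (e ▸ hy)).2.2
  have a1 := key (C.filter fun x => x < -x) (Finset.filter_subset _ _) fun x hx hx' => by
    have := (Finset.mem_filter.1 hx').2
    rw [neg_neg] at this
    exact lt_asymm this (Finset.mem_filter.1 hx).2
  have a2 := key (C.filter fun x => ¬ x < -x) (Finset.filter_subset _ _) fun x hx hx' => by
    have := (Finset.mem_filter.1 hx').2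
    rw [neg_neg] at this
    exact h.ne_neg (hn x (Finset.mem_filter.1 hx).1)
      (le_antisymm (not_lt.1 this) (not_lt.1 (Finset.mem_filter.1 hx).2))
  have := Finset.card_filter_add_card_filter_not (s := C) fun x => x < -x
  omega

theorem Ev.short (h : Ev b s) {ι : Type*} [Fintype ι] (f : M →+ (ι → ℤ)) (hf : Function.Injective f)
    (hι : Fintype.card ι = 24) (hi : (two M).index = 2 ^ 24) (h4 : {x | b x x = 4 * s}.ncard = 196560)
    (h6 : {x | b x x = 6 * s}.ncard = 16773120) (h8 : {x | b x x = 8 * s}.ncard = 398034000) :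
    (∀ x, ∃ y, b y y ≤ 8 * s ∧ x - y ∈ two M) ∧
      ∀ x, b x x = 8 * s → {y | b y y = 8 * s ∧ x - y ∈ two M}.ncard = 48 := by
  classical
  have hp := h.pos
  have f4 := Set.finite_of_ncard_ne_zero (h4.trans_ne (by norm_num))
  have f6 := Set.finite_of_ncard_ne_zero (h6.trans_ne (by norm_num))
  have f8 := Set.finite_of_ncard_ne_zero (h8.trans_ne (by norm_num))
  rw [Set.ncard_eq_toFinset_card _ f4] at h4
  rw [Set.ncard_eq_toFinset_card _ f6] at h6
  rw [Set.ncard_eq_toFinset_card _ f8] at h8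
  set Sh : Finset M := insert 0 (f4.toFinset ∪ f6.toFinset ∪ f8.toFinset) with hSh
  have hm : ∀ x ∈ Sh, b x x ≤ 8 * s := by
    intro x hx
    simp only [hSh, Finset.mem_insert, Finset.mem_union, Set.Finite.mem_toFinset, Set.mem_setOf_eq] at hx
    rcases hx with rfl | hx
    · simp; omega
    · omega
  let w : M → Nat := fun x => if x = 0 then 48 else if b x x = 8 * s then 1 else 24
  have hw : ∑ x ∈ Sh, w x = 2 ^ 24 * 48 := by
    have n0 : ∀ x, 0 < b x x → x ≠ 0 := fun x hx e => by simp [e] at hx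
    rw [hSh, Finset.sum_insert (by simp; omega), Finset.sum_union (Finset.disjoint_left.2 fun x => by simp; omega),
      Finset.sum_union (Finset.disjoint_left.2 fun x => by simp; omega),
      Finset.sum_congr rfl (g := fun _ => 24) (s₁ := f4.toFinset) fun x hx => by
        simp at hx; simp only [w]; rw [if_neg (n0 x (by omega)), if_neg (by omega)],
      Finset.sum_congr rfl (g := fun _ => 24) (s₁ := f6.toFinset) fun x hx => by
        simp at hx; simp only [w]; rw [if_neg (n0 x (by omega)), if_neg (by omega)],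
      Finset.sum_congr rfl (g := fun _ => 1) (s₁ := f8.toFinset) fun x hx => by
        simp at hx; simp only [w]; rw [if_neg (n0 x (by omega)), if_pos hx]]
    simp only [Finset.sum_const, h4, h6, h8, w]
    norm_num
  have : Finite (M ⧸ two M) := Nat.finite_of_card_ne_zero (hi.trans_ne (by norm_num))
  letI := Fintype.ofFinite (M ⧸ two M)
  have hq : ∀ {x y : M}, (x : M ⧸ two M) = y ↔ x - y ∈ two M := QuotientAddGroup.eq_iff_sub_mem
  have all8 : ∀ q : M ⧸ two M, (∀ x ∈ Sh, (x : M ⧸ two M) = q → b x x = 8 * s) →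
      ∑ x ∈ Sh.filter (fun x : M => (x : M ⧸ two M) = q), w x = (Sh.filter fun x : M => (x : M ⧸ two M) = q).card := by
    intro q hh
    rw [Finset.card_eq_sum_ones]
    refine Finset.sum_congr rfl fun x hx => ?_
    have := hh x (Finset.mem_filter.1 hx).1 (Finset.mem_filter.1 hx).2
    simp only [w]
    rw [if_neg (fun e => by simp [e] at this; omega), if_pos this]
  have hle : ∀ q ∈ (Finset.univ : Finset (M ⧸ two M)), ∑ x ∈ Sh.filter (fun x : M => (x : M ⧸ two M) = q), w x ≤ 48 := by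
    intro q _
    by_cases hh : ∀ x ∈ Sh, (x : M ⧸ two M) = q → b x x = 8 * s
    · rw [all8 q hh]
      refine (h.cls f hf _ (fun x hx => hh x (Finset.mem_filter.1 hx).1 (Finset.mem_filter.1 hx).2)
        fun x hx y hy => hq.1 ((Finset.mem_filter.1 hx).2.trans (Finset.mem_filter.1 hy).2.symm)).trans
        (by omega)
    · push Not at hh
      obtain ⟨x, hx, rfl, hn⟩ := hh
      refine (Finset.sum_le_sum_of_subset (t := {x, -x}) fun y hy => ?_).trans ?_
      · by_contra hc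
        simp only [Finset.mem_insert, Finset.mem_singleton, not_or] at hc
        exact hn (h.pair (hm x hx) (hm y (Finset.mem_filter.1 hy).1)
          (hq.1 (Finset.mem_filter.1 hy).2.symm) hc.1 hc.2).1
      · by_cases e : x = 0
        · simp [e, w]
        · rw [Finset.sum_pair (h.ne_neg e)]
          simp [w, e, hn]
  have heq : ∀ q ∈ (Finset.univ : Finset (M ⧸ two M)), ∑ x ∈ Sh.filter (fun x : M => (x : M ⧸ two M) = q), w x = 48 := by
    rw [← Finset.sum_eq_sum_iff_of_le hle, Finset.sum_fiberwise, hw, Finset.sum_const, Finset.card_univ,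
      ← Nat.card_eq_fintype_card, ← hi]
    rfl
  refine ⟨fun x => ?_, fun x hx => ?_⟩
  · obtain ⟨y, hy, _⟩ := Finset.exists_ne_zero_of_sum_ne_zero ((heq x (Finset.mem_univ _)).trans_ne (by norm_num))
    exact ⟨y, hm y (Finset.mem_filter.1 hy).1, hq.1 (Finset.mem_filter.1 hy).2.symm⟩
  · have hh : ∀ y ∈ Sh, (y : M ⧸ two M) = x → b y y = 8 * s := by
      intro y hy e
      by_cases a1 : y = x
      · rwa [a1]
      by_cases a2 : y = -x
      · simpa [a2] using hx
      · exact (h.pair hx.le (hm y hy) (hq.1 e.symm) a1 a2).2.1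
    rw [← heq x (Finset.mem_univ _), all8 _ hh, ← Set.ncard_coe_finset]
    congr 1
    ext y
    simp only [Set.mem_setOf_eq, Finset.coe_filter]
    exact ⟨fun a => ⟨by simp [hSh, a.1], (hq.2 a.2).symm⟩, fun a => ⟨hh y a.1 a.2, hq.1 a.2.symm⟩⟩

/-- The form on the lattice. -/
def bL : Λ →+ Λ →+ ℤ :=
  AddMonoidHom.mk' (fun x => AddMonoidHom.mk' (fun y => dotInt (x : V) (y : V)) fun _ _ => dot_add _ _ _)
    fun _ _ => AddMonoidHom.ext fun _ => add_dot _ _ _

theorem bL_self (x : Λ) : bL x x = sqNorm (x : V) := (sq_eq _).symm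

theorem bL_ev : Ev bL 8 where
  symm x y := dot_comm _ _
  pos := by norm_num
  ev x := by rw [bL_self]; exact Int.dvd_of_emod_eq_zero (dvd16 x.2)
  min x h := by rw [bL_self]; exact min32 x.2 fun e => h (Subtype.ext e)

theorem cong_iff {x y : Λ} : x - y ∈ two Λ ↔ ∃ z ∈ Λ, (x : V) - y = 2 • z := by
  rw [mem_two]
  exact ⟨fun ⟨z, e⟩ => ⟨z, z.2, by rw [← AddSubgroup.coe_sub, e, two_zsmul, two_nsmul]; rfl⟩,
    fun ⟨z, hz, e⟩ => ⟨⟨z, hz⟩, Subtype.ext (by rw [two_zsmul]; rw [two_nsmul] at e; exact e)⟩⟩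

theorem shortL : (∀ x : Λ, ∃ y : Λ, sqNorm (y : V) ≤ 64 ∧ x - y ∈ two Λ) ∧
    ∀ x : Λ, sqNorm (x : V) = 64 → {y : Λ | sqNorm (y : V) = 64 ∧ x - y ∈ two Λ}.ncard = 48 := by
  have := bL_ev.short Λ.subtype Subtype.val_injective cardP two_index
    (by simp only [bL_self]; exact (ncard_L fun x => sqNorm x = 32).trans n32)
    (by simp only [bL_self]; exact (ncard_L fun x => sqNorm x = 48).trans n48)
    (by simp only [bL_self]; exact (ncard_L fun x => sqNorm x = 64).trans n64)
  simp only [bL_self] at this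
  exact this

theorem pairL {x y : Λ} (hx : sqNorm (x : V) ≤ 64) (hy : sqNorm (y : V) ≤ 64) (hc : x - y ∈ two Λ)
    (h1 : y ≠ x) (h2 : y ≠ -x) : sqNorm (x : V) = 64 ∧ sqNorm (y : V) = 64 ∧ dotInt (x : V) (y : V) = 0 := by
  have := bL_ev.pair (by rwa [bL_self]) (by rwa [bL_self]) hc h1 h2
  rwa [bL_self, bL_self] at this

open Matrix in
/-- The form of a matrix. -/
def bM (B : Matrix (Fin 24) (Fin 24) ℤ) : (Fin 24 → ℤ) →+ (Fin 24 → ℤ) →+ ℤ :=
  AddMonoidHom.mk' (fun x => AddMonoidHom.mk' (fun y => x ⬝ᵥ (B *ᵥ y)) fun _ _ => by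
    rw [mulVec_add, dotProduct_add]) fun x y => AddMonoidHom.ext fun z => add_dotProduct x y (B *ᵥ z)

open Matrix in
theorem bM_ev {B : Matrix (Fin 24) (Fin 24) ℤ} (hsymm : B.IsSymm)
    (hpos : ∀ x : Fin 24 → ℤ, x ≠ 0 → 0 < x ⬝ᵥ (B *ᵥ x)) (heven : ∀ x : Fin 24 → ℤ, (2 : ℤ) ∣ x ⬝ᵥ (B *ᵥ x))
    (h2 : ∀ x : Fin 24 → ℤ, x ⬝ᵥ (B *ᵥ x) ≠ 2) : Ev (bM B) 1 where
  symm x y := by
    show x ⬝ᵥ (B *ᵥ y) = y ⬝ᵥ (B *ᵥ x)
    rw [dotProduct_mulVec, ← mulVec_transpose, hsymm.eq, dotProduct_comm]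
  pos := one_pos
  ev x := heven x
  min x h := by
    have := hpos x h; have := heven x; have := h2 x
    show _ ≤ x ⬝ᵥ (B *ᵥ x)
    omega

theorem two_pi {ι : Type*} {x : ι → ℤ} : x ∈ two (ι → ℤ) ↔ ∀ i, (2 : ℤ) ∣ x i :=
  ⟨fun ⟨y, e⟩ i => ⟨y i, (congrFun e i).symm⟩, fun h => mem_two.2 ⟨fun i => x i / 2, funext fun i => by
    have := h i; simp only [Pi.smul_apply, smul_eq_mul]; omega⟩⟩

end CfsgH7.Lee
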